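import Mathlib.GroupTheory.SpecificGroups.Alternating
import Mathlib.GroupTheory.Perm.Fin
import Mathlib.GroupTheory.Perm.Cycle.Type

/-!
# Automorphisms of `A₆` preserving the class of three-cycles permute the six point stabilisers
-/

set_option autoImplicit false
set_option maxHeartbeats 1000000

namespace Cfsg.Agent.CharTwo.AltSix

open Equiv Equiv.Perm

/-- `(0 1 2)`. -/
def pa : Perm (Fin 6) := swap 0 1 * swap 1 2

/-- `(2 3 4)`. -/
def pb : Perm (Fin 6) := swap 2 3 * swap 3 4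

theorem gen_five :
    (Finset.univ.filter fun x : Perm (Fin 6) => Perm.sign x = 1 ∧ x 5 = 5) ⊆
      (Finset.univ : Finset (Fin 5 × Fin 3 × Fin 2 × Fin 2)).image fun i =>
        (pa * pb) ^ i.1.val * pa ^ i.2.1.val * (pa * pb * pa * pb * pb) ^ i.2.2.1.val *
          (pb * pa * pb * pb * pa) ^ i.2.2.2.val := by
  decide +kernel

theorem common_fixed : ∀ y : Perm (Fin 6), y.support.card = 3 → (pa * y) ^ 5 = 1 →
    ∃ i : Fin 6, pa i = i ∧ y i = i := by
  decide +kernel

theorem pa_pb_facts : Perm.sign pa = 1 ∧ Perm.sign pb = 1 ∧ pa.support.card = 3 ∧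
    pb.support.card = 3 ∧ (pa * pb) ^ 5 = 1 ∧ pa 5 = 5 ∧ pb 5 = 5 := by
  decide +kernel

theorem exists_even_to : ∀ i : Fin 6, ∃ σ : Perm (Fin 6), Perm.sign σ = 1 ∧ σ 5 = i := by
  decide +kernel

theorem eq_of_fix_le : ∀ i k : Fin 6,
    (∀ x : Perm (Fin 6), Perm.sign x = 1 → x i = i → x k = k) → i = k := by
  decide +kernel

/-- The class-preservation hypothesis. -/
def Preserves (α : alternatingGroup (Fin 6) ≃* alternatingGroup (Fin 6)) : Prop :=
  ∀ x : alternatingGroup (Fin 6), IsThreeCycle (x : Perm (Fin 6)) → IsThreeCycle ((α x) : Perm (Fin 6))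

/-- `α` maps the stabiliser of `i` into that of `k`. -/
def Maps (α : alternatingGroup (Fin 6) ≃* alternatingGroup (Fin 6)) (i k : Fin 6) : Prop :=
  ∀ x : alternatingGroup (Fin 6), (x : Perm (Fin 6)) i = i → (α x : Perm (Fin 6)) k = k

variable {α β : alternatingGroup (Fin 6) ≃* alternatingGroup (Fin 6)}

theorem exists_maps_five (hα : Preserves α) : ∃ k, Maps α 5 k := by
  classical
  obtain ⟨sa, sb, ca, cb, hab, fa, fb⟩ := pa_pb_facts
  set a : alternatingGroup (Fin 6) := ⟨pa, Perm.mem_alternatingGroup.2 sa⟩ with ha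
  set b : alternatingGroup (Fin 6) := ⟨pb, Perm.mem_alternatingGroup.2 sb⟩ with hb
  have hα_a := hα a (card_support_eq_three_iff.1 ca)
  have hα_b := hα b (card_support_eq_three_iff.1 cb)
  obtain ⟨σ, hσ⟩ := isConj_iff.1 ((isConj_iff_cycleType_eq (σ := ((α a) : Perm (Fin 6))) (τ := pa)).2
    (hα_a.trans (card_support_eq_three_iff.1 ca : IsThreeCycle pa).symm))
  obtain ⟨i, hi1, hi2⟩ := common_fixed (σ * (α b : Perm (Fin 6)) * σ⁻¹)
    (by rw [card_support_conj]; exact hα_b.card_support) (by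
      rw [← hσ]
      have : σ * (α a : Perm (Fin 6)) * σ⁻¹ * (σ * (α b : Perm (Fin 6)) * σ⁻¹) =
          σ * ((α a : Perm (Fin 6)) * α b) * σ⁻¹ := by simp [mul_assoc]
      rw [this, conj_pow]
      have h5 : (a * b) ^ 5 = 1 := Subtype.ext hab
      have := congrArg (fun z : alternatingGroup (Fin 6) => (α z : Perm (Fin 6))) h5
      simp only [map_pow, map_mul, map_one] at this
      rw [show ((α a : Perm (Fin 6)) * α b) ^ 5 = 1 from this]
      simp)
  refine ⟨σ⁻¹ i, ?_⟩
  have hfa : (α a : Perm (Fin 6)) (σ⁻¹ i) = σ⁻¹ i := by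
    rw [← hσ] at hi1
    simpa [Perm.mul_apply, Equiv.Perm.inv_def, Equiv.apply_eq_iff_eq_symm_apply] using hi1
  have hfb : (α b : Perm (Fin 6)) (σ⁻¹ i) = σ⁻¹ i := by
    simpa [Perm.mul_apply, Equiv.Perm.inv_def, Equiv.apply_eq_iff_eq_symm_apply] using hi2
  intro x hx
  obtain ⟨⟨p, q, r, s⟩, -, he⟩ := Finset.mem_image.1 (gen_five (Finset.mem_filter.2
    ⟨Finset.mem_univ _, Perm.mem_alternatingGroup.1 x.2, hx⟩))
  have hx' : x = (a * b) ^ p.val * a ^ q.val * (a * b * a * b * b) ^ r.val *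
      (b * a * b * b * a) ^ s.val := Subtype.ext he.symm
  let K : Subgroup (alternatingGroup (Fin 6)) :=
    (MulAction.stabilizer (Perm (Fin 6)) (σ⁻¹ i)).comap
      ((alternatingGroup (Fin 6)).subtype.comp α.toMonoidHom)
  have haK : a ∈ K := hfa
  have hbK : b ∈ K := hfb
  have : x ∈ K := by
    rw [hx']
    exact mul_mem (mul_mem (mul_mem (pow_mem (mul_mem haK hbK) _) (pow_mem haK _))
      (pow_mem (mul_mem (mul_mem (mul_mem (mul_mem haK hbK) haK) hbK) hbK) _))
      (pow_mem (mul_mem (mul_mem (mul_mem (mul_mem hbK haK) hbK) hbK) haK) _)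
  exact this

theorem exists_maps (hα : Preserves α) (i : Fin 6) : ∃ k, Maps α i k := by
  obtain ⟨σ, hs, hσ⟩ := exists_even_to i
  obtain ⟨k, hk⟩ := exists_maps_five hα
  set s : alternatingGroup (Fin 6) := ⟨σ, Perm.mem_alternatingGroup.2 hs⟩
  refine ⟨(α s : Perm (Fin 6)) k, fun x hx => ?_⟩
  have h1 := hk (s⁻¹ * x * s) (by simp [s, Perm.mul_apply, hσ, hx, Equiv.symm_apply_eq])
  have h2 := congrArg (α s : Perm (Fin 6)) h1
  simpa [Perm.mul_apply] using h2

theorem Maps.trans {i k l : Fin 6} (h : Maps α i k) (h' : Maps β k l) : Maps (α.trans β) i l :=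
  fun x hx => h' (α x) (h x hx)

theorem maps_refl_eq {i k : Fin 6} (h : Maps (MulEquiv.refl _) i k) : i = k :=
  eq_of_fix_le i k fun x hs hx => h ⟨x, Perm.mem_alternatingGroup.2 hs⟩ hx

theorem maps_unique (hα : Preserves α) (hα' : Preserves α.symm) {i k k' : Fin 6} (h : Maps α i k)
    (h' : Maps α i k') : k = k' := by
  obtain ⟨i', hi'⟩ := exists_maps hα' k
  have e : i' = i := by
    have := maps_refl_eq (i := i) (k := i') (fun x hx => by
      have := hi' (α x) (h x hx)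
      simpa using this)
    exact this.symm
  subst e
  exact (maps_refl_eq (i := k) (k := k') fun x hx => by
    have := h' (α.symm x) (hi' x hx)
    simpa using this)

/-- Elements of order three which are not three-cycles form one class in `A₆`. -/
theorem isConj_double {x y : alternatingGroup (Fin 6)} (hx : x ^ 3 = 1) (hx1 : x ≠ 1)
    (hx3 : ¬ IsThreeCycle (x : Perm (Fin 6))) (hy : y ^ 3 = 1) (hy1 : y ≠ 1)
    (hy3 : ¬ IsThreeCycle (y : Perm (Fin 6))) : IsConj x y := by
  haveI : Fact (Nat.Prime 3) := ⟨Nat.prime_three⟩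
  have key : ∀ z : alternatingGroup (Fin 6), z ^ 3 = 1 → z ≠ 1 →
      ¬ IsThreeCycle (z : Perm (Fin 6)) → (z : Perm (Fin 6)).cycleType = {3, 3} := by
    intro z hz hz1 hz3
    have ho : orderOf (z : Perm (Fin 6)) = 3 := by
      rw [Subgroup.orderOf_coe]; exact orderOf_eq_prime hz hz1
    obtain ⟨n, hn⟩ := cycleType_prime_order (σ := (z : Perm (Fin 6))) (ho ▸ Nat.prime_three)
    rw [ho] at hn
    have hle : (z : Perm (Fin 6)).cycleType.sum ≤ 6 := by
      rw [sum_cycleType]; exact (Finset.card_le_univ _).trans (by simp)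
    rw [hn, Multiset.sum_replicate, smul_eq_mul] at hle
    have : n = 0 ∨ n = 1 := by omega
    rcases this with rfl | rfl
    · exact absurd (show IsThreeCycle (z : Perm (Fin 6)) by rw [IsThreeCycle, hn]; rfl) hz3
    · rw [hn]; rfl
  obtain ⟨w0, hw0⟩ : ∃ w0 : Perm (Fin 6), w0 = swap 0 1 * swap 1 2 * (swap 3 4 * swap 4 5) :=
    ⟨_, rfl⟩
  obtain ⟨o, ho⟩ : ∃ o : Perm (Fin 6), o = swap 0 3 * swap 1 4 * swap 2 5 := ⟨_, rfl⟩
  have hfacts : Perm.sign o = -1 ∧ o * w0 * o⁻¹ = w0 ∧ w0.cycleType = {3, 3} := by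
    subst hw0 ho
    refine ⟨by decide +kernel, by decide +kernel, ?_⟩
    refine key ⟨_, Perm.mem_alternatingGroup.2 (by decide +kernel)⟩ (Subtype.ext (by decide +kernel))
      (fun e => absurd (congrArg Subtype.val e) (by decide +kernel)) fun h => absurd h.card_support ?_
    decide +kernel
  obtain ⟨f1, f2, f3⟩ := hfacts
  have rep : ∀ z : alternatingGroup (Fin 6), z ^ 3 = 1 → z ≠ 1 →
      ¬ IsThreeCycle (z : Perm (Fin 6)) → ∃ σ : Perm (Fin 6), Perm.sign σ = 1 ∧ σ * z * σ⁻¹ = w0 := by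
    intro z hz hz1 hz3
    obtain ⟨σ, hσ⟩ := isConj_iff.1 (isConj_iff_cycleType_eq.2 ((key z hz hz1 hz3).trans f3.symm))
    rcases Int.units_eq_one_or (Perm.sign σ) with h | h
    · exact ⟨σ, h, hσ⟩
    · refine ⟨o * σ, by rw [map_mul, f1, h]; rfl, ?_⟩
      calc o * σ * z * (o * σ)⁻¹ = o * (σ * z * σ⁻¹) * o⁻¹ := by simp [mul_assoc]
        _ = w0 := by rw [hσ, f2]
  obtain ⟨σ, hs, hσ⟩ := rep x hx hx1 hx3
  obtain ⟨τ, ht, hτ⟩ := rep y hy hy1 hy3
  refine isConj_iff.2 ⟨⟨τ⁻¹ * σ, Perm.mem_alternatingGroup.2 (by rw [map_mul, map_inv, hs, ht]; rfl)⟩,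
    Subtype.ext ?_⟩
  show τ⁻¹ * σ * (x : Perm (Fin 6)) * (τ⁻¹ * σ)⁻¹ = y
  calc τ⁻¹ * σ * (x : Perm (Fin 6)) * (τ⁻¹ * σ)⁻¹ = τ⁻¹ * (σ * x * σ⁻¹) * τ := by simp [mul_assoc]
    _ = y := by rw [hσ, ← hτ]; simp [mul_assoc]

theorem isThreeCycle_of_isConj {x y : alternatingGroup (Fin 6)} (h : IsConj x y)
    (hx : IsThreeCycle (x : Perm (Fin 6))) : IsThreeCycle (y : Perm (Fin 6)) := by
  have h' : IsConj (x : Perm (Fin 6)) y := (alternatingGroup (Fin 6)).subtype.map_isConj h
  exact ((isConj_iff_cycleType_eq.1 h').symm.trans hx)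

/-- An automorphism fixing an element of order three preserves three-cycles. -/
theorem preserves_of_fixed {x0 : alternatingGroup (Fin 6)} (h3 : x0 ^ 3 = 1) (h1 : x0 ≠ 1)
    (hfix : α x0 = x0) : Preserves α := by
  intro y hy
  by_cases hx : IsThreeCycle (x0 : Perm (Fin 6))
  · have hc : IsConj x0 y := alternatingGroup.isThreeCycle_isConj (by simp) hx hy
    have := α.toMonoidHom.map_isConj hc
    exact isThreeCycle_of_isConj this (by simpa [hfix] using hx)
  · by_contra hy'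
    have hy3 : y ^ 3 = 1 := by
      refine Subtype.ext ?_
      have := pow_orderOf_eq_one (y : Perm (Fin 6))
      rw [hy.orderOf] at this
      exact this
    have hy1 : y ≠ 1 := by
      rintro rfl
      have := hy.orderOf
      simp at this
    have hc : IsConj x0 (α y) := isConj_double h3 h1 hx (by rw [← map_pow, hy3, map_one])
      (fun e => hy1 (α.injective (by rw [e, map_one]))) hy'
    have := α.symm.toMonoidHom.map_isConj hc
    exact hx (isThreeCycle_of_isConj (IsConj.symm (by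
      simpa [(MulEquiv.symm_apply_eq α).2 hfix.symm] using this)) hy)

theorem preserves_conj (s : alternatingGroup (Fin 6)) : Preserves (MulAut.conj s) := fun x hx =>
  isThreeCycle_of_isConj (isConj_iff.2 ⟨s, rfl⟩) hx

theorem Preserves.trans (h : Preserves α) (h' : Preserves β) : Preserves (α.trans β) :=
  fun x hx => h' _ (h x hx)

end Cfsg.Agent.CharTwo.AltSix
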