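import Cfsg.Agent.S0813
import Cfsg.Agent.S0276
import Cfsg.Agent.FusionSimple.PSLTwo
import Cfsg.Agent.Linear.Orders

/-!
# Abelian Sylow 2-subgroups and automorphisms of `PSL(2, q)`, `q ≡ ±3 (mod 8)`
-/

set_option autoImplicit false

namespace Cfsg.Agent.CharTwo.AutPSLTwo

open Matrix
open scoped MatrixGroups

variable {F : Type*} [Field F] [Fintype F]

/-- An abelian Sylow 2-subgroup forces `q ≡ 3, 5 (mod 8)`. -/
theorem mod_eight (hodd : Odd (Fintype.card F))
    (P : Sylow 2 (ProjectiveSpecialLinearGroup (Fin 2) F))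
    (hP : ∀ a ∈ (P : Subgroup (ProjectiveSpecialLinearGroup (Fin 2) F)), ∀ b ∈ (P : Subgroup (ProjectiveSpecialLinearGroup (Fin 2) F)), a * b = b * a) :
    Fintype.card F % 8 = 3 ∨ Fintype.card F % 8 = 5 := by
  have h2 := Nat.odd_iff.1 hodd
  by_contra hcon
  have h8 : Fintype.card F % 8 = 1 ∨ Fintype.card F % 8 = 7 := by omega
  have h16 : 16 ∣ Fintype.card F ^ 2 - 1 := by
    rcases h8 with h | h
    · obtain ⟨t, ht⟩ : ∃ t, Fintype.card F = 8 * t + 1 := ⟨Fintype.card F / 8, by omega⟩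
      refine ⟨4 * t * t + t, ?_⟩
      rw [ht]; ring_nf; omega
    · obtain ⟨t, ht⟩ : ∃ t, Fintype.card F = 8 * t + 7 := ⟨Fintype.card F / 8, by omega⟩
      refine ⟨4 * t * t + 7 * t + 3, ?_⟩
      rw [ht]; ring_nf; omega
  obtain ⟨k, hk, ⟨e⟩⟩ := FusionSimple.sylow_two_PSL_two_dihedral h2 h16 P
  have hab : ∀ x y : DihedralGroup (2 ^ k), x * y = y * x := fun x y => by
    obtain ⟨a, rfl⟩ := e.surjective x
    obtain ⟨b, rfl⟩ := e.surjective y
    rw [← map_mul, ← map_mul]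
    exact congrArg e (Subtype.ext (hP a a.2 b b.2))
  have h1 := hab (DihedralGroup.r 1) (DihedralGroup.sr 0)
  rw [DihedralGroup.r_mul_sr, DihedralGroup.sr_mul_r] at h1
  injection h1 with h1
  have h4 : 4 ≤ 2 ^ k := le_trans (by norm_num) (Nat.pow_le_pow_right two_pos hk)
  have h2' : ((2 : ℕ) : ZMod (2 ^ k)) = 0 := by
    push_cast
    linear_combination -h1
  have := Nat.le_of_dvd two_pos ((ZMod.natCast_eq_zero_iff _ _).1 h2')
  omega

/-- An abelian 2-group of automorphisms containing an inner four-group has order four. -/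
theorem card_abelian_two_subgroup (hq : Fintype.card F % 8 = 3 ∨ Fintype.card F % 8 = 5)
    (hq3 : 3 < Fintype.card F)
    (A : Subgroup (MulAut (ProjectiveSpecialLinearGroup (Fin 2) F))) (hA : IsPGroup 2 A)
    (hab : ∀ a ∈ A, ∀ b ∈ A, a * b = b * a) : Nat.card A ≤ 4 := by
  classical
  haveI : Fact (Nat.Prime 2) := ⟨Nat.prime_two⟩
  obtain ⟨p, hchar⟩ := CharP.exists F
  obtain ⟨⟨f, hf⟩, hp, hcard⟩ := FiniteField.card F p
  haveI : Fact p.Prime := ⟨hp⟩
  have hfodd : Odd f := by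
    rw [← Nat.not_even_iff_odd]
    rintro ⟨r, hr⟩
    have h2 : Fintype.card F % 8 = (p ^ r % 8 * (p ^ r % 8)) % 8 := by
      rw [hcard]; simp [hr, pow_add, Nat.mul_mod]
    have := Nat.mod_lt (p ^ r) (show 8 > 0 by norm_num)
    interval_cases h : p ^ r % 8 <;> omega
  have hAut := S0813.result (F := F) p f hf hcard 2 le_rfl (fun _ => by
    have : Fintype.card F = p ^ f := hcard
    omega)
  rw [if_pos rfl, one_mul, Linear.card_PGL_eq_card_SL, Linear.card_SL_two] at hAut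
  -- the 2-part of the order is 8
  obtain ⟨r, hr, hfac⟩ : ∃ r, Odd r ∧
      Fintype.card F * (Fintype.card F - 1) * (Fintype.card F + 1) = 2 ^ 3 * r := by
    rcases hq with hq | hq
    · obtain ⟨t, ht⟩ : ∃ t, Fintype.card F = 8 * t + 3 := ⟨Fintype.card F / 8, by omega⟩
      refine ⟨(8 * t + 3) * (4 * t + 1) * (2 * t + 1), ?_, ?_⟩
      · exact ((Odd.mul ⟨4 * t + 1, by ring⟩ ⟨2 * t, by ring⟩).mul ⟨t, rfl⟩)
      · rw [ht, show 8 * t + 3 - 1 = 8 * t + 2 by omega]; ring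
    · obtain ⟨t, ht⟩ : ∃ t, Fintype.card F = 8 * t + 5 := ⟨Fintype.card F / 8, by omega⟩
      refine ⟨(8 * t + 5) * (2 * t + 1) * (4 * t + 3), ?_, ?_⟩
      · exact ((Odd.mul ⟨4 * t + 2, by ring⟩ ⟨t, rfl⟩).mul ⟨2 * t + 1, by ring⟩)
      · rw [ht, show 8 * t + 5 - 1 = 8 * t + 4 by omega]; ring
  rw [hfac] at hAut
  have hcard8 : ∀ P : Sylow 2 (MulAut (ProjectiveSpecialLinearGroup (Fin 2) F)),
      Nat.card P = 8 := by
    intro P
    have hfr : (f * r).factorization 2 = 0 := Nat.factorization_eq_zero_of_not_dvd (by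
      rw [← even_iff_two_dvd, Nat.not_even_iff_odd]; exact hfodd.mul hr)
    rw [P.card_eq_multiplicity, hAut, show f * (2 ^ 3 * r) = 2 ^ 3 * (f * r) by ring,
      Nat.factorization_mul (by norm_num) (Nat.pos_iff_ne_zero.1 (hfodd.mul hr).pos), Finsupp.add_apply,
      Nat.Prime.factorization_pow Nat.prime_two, Finsupp.single_eq_same, hfr]
    norm_num
  obtain ⟨P, hAP⟩ := hA.exists_le_sylow
  have hdvd : Nat.card A ∣ 2 ^ 3 := by
    have := Subgroup.card_dvd_of_le hAP
    rwa [hcard8] at this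
  obtain ⟨i, hi, hAi⟩ := (Nat.dvd_prime_pow Nat.prime_two).1 hdvd
  by_contra hgt
  have hi3 : i = 3 := by
    by_contra h
    have : 2 ^ i ≤ 2 ^ 2 := Nat.pow_le_pow_right two_pos (by omega)
    omega
  subst hi3
  have hPA : (P : Subgroup _) = A :=
    (Subgroup.eq_of_le_of_card_ge hAP (by rw [hcard8 P, hAi]; norm_num)).symm
  -- a non-abelian 2-subgroup
  have h2 : (2 : F) ≠ 0 := Linear.two_ne_zero_of_odd_card (Nat.odd_iff.2 (by omega))
  let a : GL (Fin 2) F := GeneralLinearGroup.mkOfDetNeZero !![1, -1; 1, 1] (by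
    rw [det_fin_two_of]; convert h2 using 1; ring)
  let d : GL (Fin 2) F := GeneralLinearGroup.mkOfDetNeZero !![1, 0; 0, -1] (by
    rw [det_fin_two_of]; simp)
  have ha : (a : Matrix (Fin 2) (Fin 2) F) = !![1, -1; 1, 1] := rfl
  have hd : (d : Matrix (Fin 2) (Fin 2) F) = !![1, 0; 0, -1] := rfl
  have hcen : ∀ (g : GL (Fin 2) F) (c : F), (g : Matrix (Fin 2) (Fin 2) F) = c • 1 →
      (AutPSL.conjAut g : MulAut (ProjectiveSpecialLinearGroup (Fin 2) F)) = 1 := by
    intro g c hg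
    rw [AutPSL.conjAut_eq_one_iff le_rfl, Subgroup.mem_center_iff]
    intro x
    refine Units.ext ?_
    rw [Units.val_mul, Units.val_mul, hg, smul_mul_assoc, mul_smul_comm, one_mul, mul_one]
  set x : MulAut (ProjectiveSpecialLinearGroup (Fin 2) F) := AutPSL.conjAut a with hx
  set y : MulAut (ProjectiveSpecialLinearGroup (Fin 2) F) := AutPSL.conjAut d with hy
  have hy2 : y * y = 1 := by
    rw [hy, ← map_mul]
    refine hcen _ 1 ?_
    rw [Units.val_mul, hd]
    ext i j; fin_cases i <;> fin_cases j <;> simp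
  have hx4 : x ^ 4 = 1 := by
    rw [hx, ← map_pow]
    refine hcen _ (-4) ?_
    rw [show (4 : ℕ) = 2 * 2 by rfl, pow_mul, pow_two, pow_two, Units.val_mul, Units.val_mul, ha]
    ext i j; fin_cases i <;> fin_cases j <;> simp <;> ring
  have hyx : y * x * y = x⁻¹ := by
    rw [eq_inv_iff_mul_eq_one, hx, hy, ← map_mul, ← map_mul, ← map_mul]
    refine hcen _ 2 ?_
    rw [Units.val_mul, Units.val_mul, Units.val_mul, ha, hd]
    ext i j; fin_cases i <;> fin_cases j <;> simp <;> ring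
  have hyinv : y⁻¹ = y := inv_eq_of_mul_eq_one_right hy2
  have hK : IsPGroup 2 (Subgroup.zpowers y ⊔ Subgroup.zpowers x : Subgroup _) := by
    refine IsPGroup.to_sup_of_normal_right' ?_ ?_ ?_
    · refine IsPGroup.of_card_dvd_pow (n := 1) ?_
      rw [Nat.card_zpowers]
      exact orderOf_dvd_of_pow_eq_one (by rw [pow_one, pow_two, hy2])
    · refine IsPGroup.of_card_dvd_pow (n := 2) ?_
      rw [Nat.card_zpowers]
      exact orderOf_dvd_of_pow_eq_one hx4
    · rw [Subgroup.zpowers_le, Subgroup.mem_normalizer_iff]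
      have key : ∀ z ∈ Subgroup.zpowers x, y * z * y⁻¹ ∈ Subgroup.zpowers x := by
        rintro z ⟨m, rfl⟩
        refine ⟨-m, ?_⟩
        show x ^ (-m) = y * x ^ m * y⁻¹
        rw [← conj_zpow, hyinv, hyx, _root_.inv_zpow, _root_.zpow_neg]
      refine fun z => ⟨key z, fun hz => ?_⟩
      have := key _ hz
      rw [hyinv, ← mul_assoc, ← mul_assoc, hy2, one_mul, mul_assoc, hy2, mul_one] at this
      exact this
  obtain ⟨Q, hQ⟩ := hK.exists_le_sylow
  obtain ⟨g, hg⟩ := MulAction.exists_smul_eq (MulAut (ProjectiveSpecialLinearGroup (Fin 2) F)) P Q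
  have hQc : ∀ u ∈ (Q : Subgroup (MulAut (ProjectiveSpecialLinearGroup (Fin 2) F))), ∀ v ∈ (Q : Subgroup (MulAut (ProjectiveSpecialLinearGroup (Fin 2) F))), u * v = v * u := by
    rw [← hg]
    intro u hu v hv
    rw [Sylow.coe_subgroup_smul] at hu hv
    obtain ⟨u', hu', rfl⟩ := hu
    obtain ⟨v', hv', rfl⟩ := hv
    show MulAut.conj g u' * MulAut.conj g v' = MulAut.conj g v' * MulAut.conj g u'
    rw [← map_mul, ← map_mul, hab u' (hPA ▸ hu') v' (hPA ▸ hv')]
  have hxy : x * y = y * x := hQc x (hQ (Subgroup.mem_sup_right (Subgroup.mem_zpowers x))) y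
    (hQ (Subgroup.mem_sup_left (Subgroup.mem_zpowers y)))
  have hxx : x * x = 1 := by
    have h1 : y * x * y = x := by rw [← hxy, mul_assoc, hy2, mul_one]
    rw [hyx] at h1
    exact eq_inv_iff_mul_eq_one.1 h1.symm
  rw [hx, ← map_mul, AutPSL.conjAut_eq_one_iff le_rfl, Subgroup.mem_center_iff] at hxx
  have e := congrArg (fun g : GL (Fin 2) F => (g : Matrix (Fin 2) (Fin 2) F) 0 1) (hxx d)
  simp only [Units.val_mul, ha, hd] at e
  simp at e
  have h4 : (2 : F) * 2 = 0 := by linear_combination -e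
  rcases mul_eq_zero.1 h4 with h | h <;> exact h2 h

end Cfsg.Agent.CharTwo.AutPSLTwo
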