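import Cfsg.Agent.CharTwo.EarlyType

/-!
# Trivial cores in groups of early characteristic 2 type

When all 2-locals are 2-constrained and a Sylow 2-subgroup with `SCN₃(2) ≠ ∅` normalizes no
nontrivial subgroup of odd order, all involution centralizers have trivial core.
-/

set_option autoImplicit false

namespace Cfsg.Agent.CharTwo

open Subgroup
open Cfsg.Agent

variable {G : Type*} [Group G]

theorem inverted_decomposition {W : Subgroup G} {e x : G}
    (hW : ∀ u ∈ W, ∀ v ∈ W, Commute u v) (he : e * e = 1) (hn : e ∈ normalizer (W : Set G))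
    (hx : x ∈ W) :
    ∃ u ∈ W, ∃ v ∈ W, Commute e u ∧ e * v * e⁻¹ = v⁻¹ ∧ u * v = x ^ 2 := by
  have hex : e * x * e⁻¹ ∈ W := (hn x).1 hx
  have hee : ∀ a : G, e * (e * a * e⁻¹) * e⁻¹ = a := fun a => by
    calc e * (e * a * e⁻¹) * e⁻¹ = (e * e) * a * (e * e)⁻¹ := by group
      _ = a := by rw [he, one_mul, inv_one, mul_one]
  refine ⟨x * (e * x * e⁻¹), mul_mem hx hex, x * (e * x * e⁻¹)⁻¹, mul_mem hx (inv_mem hex),
    ?_, ?_, ?_⟩
  · refine mul_inv_eq_iff_eq_mul.1 ?_
    calc e * (x * (e * x * e⁻¹)) * e⁻¹ = (e * x * e⁻¹) * (e * (e * x * e⁻¹) * e⁻¹) := by group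
      _ = (e * x * e⁻¹) * x := by rw [hee]
      _ = x * (e * x * e⁻¹) := (hW _ hex _ hx).eq
  · calc e * (x * (e * x * e⁻¹)⁻¹) * e⁻¹
        = (e * x * e⁻¹) * (e * (e * x * e⁻¹) * e⁻¹)⁻¹ := by group
      _ = (e * x * e⁻¹) * x⁻¹ := by rw [hee]
      _ = _ := by rw [mul_inv_rev, inv_inv]
  · calc x * (e * x * e⁻¹) * (x * (e * x * e⁻¹)⁻¹)
        = x * ((e * x * e⁻¹) * x) * (e * x * e⁻¹)⁻¹ := by group
      _ = x * (x * (e * x * e⁻¹)) * (e * x * e⁻¹)⁻¹ := by rw [(hW _ hex _ hx).eq]
      _ = x ^ 2 := by rw [pow_two]; group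

/-- `θ t = O(C(t))`. -/
abbrev theta (t : G) : Subgroup G := coreIn 2 (centralizer ({t} : Set G))

theorem theta_odd [Finite G] {t x : G} (hx : x ∈ theta t) : Odd (orderOf x) :=
  (odd_of_coprime_two (coreIn_coprime _)).of_dvd_nat (orderOf_dvd_natCard _ hx)

theorem commute_of_mem_theta {t x : G} (hx : x ∈ theta t) : Commute t x :=
  (mem_centralizer_singleton_iff.1 (coreIn_le _ hx)).symm

theorem mem_normalizer_theta {t a : G} (h : Commute a t) :
    a ∈ normalizer (theta t : Set G) :=
  le_normalizer_coreIn _ (mem_centralizer_singleton_iff.2 h)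

theorem balance [Finite G]
    (hcon : ∀ t : G, orderOf t = 2 → Cfsg.IsPConstrained 2 (centralizer ({t} : Set G)))
    {a b x : G} (ha : orderOf a = 2) (hb : orderOf b = 2) (hab : Commute a b)
    (hx : x ∈ theta a) (hxb : Commute b x) : x ∈ theta b :=
  coreIn_inf_le hab ha (hcon b hb) ⟨hx, mem_centralizer_singleton_iff.2 hxb.symm.eq⟩

theorem map_theta_conj [Finite G] (g t : G) :
    Fusion.cj g (theta t) = theta (g * t * g⁻¹) := by
  have : Fusion.cj g (centralizer ({t} : Set G)) = centralizer ({g * t * g⁻¹} : Set G) := by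
    ext y
    rw [Fusion.mem_cj, mem_centralizer_singleton_iff, mem_centralizer_singleton_iff]
    constructor
    · intro h
      calc y * (g * t * g⁻¹) = g * ((g⁻¹ * y * g) * t) * g⁻¹ := by group
        _ = g * (t * (g⁻¹ * y * g)) * g⁻¹ := by rw [h]
        _ = _ := by group
    · intro h
      calc g⁻¹ * y * g * t = g⁻¹ * (y * (g * t * g⁻¹)) * g := by group
        _ = g⁻¹ * ((g * t * g⁻¹) * y) * g := by rw [h]
        _ = _ := by group
  rw [theta, coreIn_map_conj, this]

variable [Finite G]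

theorem theta_z_eq_bot (S : Sylow 2 G)
    (hinv : ∀ X : Subgroup G, Odd (Nat.card X) → (S : Subgroup G) ≤ normalizer (X : Set G) → X = ⊥)
    {z : G} (hzS : ∀ s ∈ (S : Subgroup G), Commute s z) : theta z = ⊥ :=
  hinv _ (odd_of_coprime_two (coreIn_coprime _)) fun _ hs => mem_normalizer_theta (hzS _ hs)

theorem theta_eq_bot_of_mem
    (hcon : ∀ t : G, orderOf t = 2 → Cfsg.IsPConstrained 2 (centralizer ({t} : Set G)))
    (S : Sylow 2 G)
    (hinv : ∀ X : Subgroup G, Odd (Nat.card X) → (S : Subgroup G) ≤ normalizer (X : Set G) → X = ⊥)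
    {B : Subgroup G} (hSB : (S : Subgroup G) ≤ normalizer (B : Set G))
    (hBc : ∀ x ∈ B, ∀ y ∈ B, Commute x y) (hB2 : ∀ x ∈ B, x * x = 1) (hB8 : 8 ≤ Nat.card B)
    {z : G} (hzB : z ∈ B) (hz : orderOf z = 2) (hzS : ∀ s ∈ (S : Subgroup G), Commute s z)
    {b : G} (hbB : b ∈ B) (hb : orderOf b = 2) : theta b = ⊥ := by
  have hz0 := theta_z_eq_bot S hinv hzS
  have inv_z : ∀ a ∈ B, orderOf a = 2 → ∀ x ∈ theta a, z * x * z⁻¹ = x⁻¹ := by
    intro a haB ha
    refine conj_eq_inv_of_fpf (Invol.inv_mul_self hz) (mem_normalizer_theta (hBc z hzB a haB))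
      fun x hx hxz => ?_
    have h := balance hcon ha hz (hBc a haB z hzB) hx hxz
    rw [hz0] at h
    exact h
  have ab : ∀ a ∈ B, orderOf a = 2 → ∀ x ∈ theta a, ∀ y ∈ theta a, Commute x y :=
    fun a haB ha x hx y hy => commute_of_inverts (inv_z a haB ha) hx hy
  have comm_of_sq : ∀ x y : G, Odd (orderOf x) → Odd (orderOf y) → Commute (x ^ 2) (y ^ 2) →
      Commute x y := by
    intro x y hx hy h
    obtain ⟨i, hi⟩ := mem_zpowers_sq_of_odd hx
    obtain ⟨j, hj⟩ := mem_zpowers_sq_of_odd hy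
    rw [← hi, ← hj]
    exact h.zpow_zpow i j
  have pair : ∀ a ∈ B, orderOf a = 2 → ∀ c ∈ B, orderOf c = 2 → a * c ≠ z →
      ∀ x ∈ theta a, ∀ y ∈ theta c, Commute x y := by
    intro a haB ha c hcB hc hacz x hx y hy
    apply comm_of_sq _ _ (theta_odd hx) (theta_odd hy)
    obtain ⟨u, hu, v, hv, hcu, hcv, huv⟩ := inverted_decomposition (ab a haB ha)
      (hB2 c hcB) (mem_normalizer_theta (hBc c hcB a haB)) hx
    obtain ⟨u', hu', v', hv', hau, hav, huv'⟩ := inverted_decomposition (ab c hcB hc)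
      (hB2 a haB) (mem_normalizer_theta (hBc a haB c hcB)) hy
    rw [← huv, ← huv']
    have hu_c : u ∈ theta c := balance hcon ha hc (hBc a haB c hcB) hu hcu
    have hu'_a : u' ∈ theta a := balance hcon hc ha (hBc c hcB a haB) hu' hau
    have c1 : Commute u u' := ab a haB ha u hu u' hu'_a
    have c2 : Commute u v' := ab c hcB hc u hu_c v' hv'
    have c3 : Commute v u' := ab a haB ha v hv u' hu'_a
    have c4 : Commute v v' := by
      set d := a * c * z with hd
      have hdB : d ∈ B := mul_mem (mul_mem haB hcB) hzB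
      have hd1 : d ≠ 1 := by
        intro h1
        apply hacz
        rw [mul_eq_one_iff_eq_inv.1 h1, Invol.inv_eq hz]
      have hd2 := Invol.orderOf_eq_two (hB2 d hdB) hd1
      have fixed : ∀ w : G, ∀ a' c' : G, d = a' * c' * z → Commute a' w → c' * w * c'⁻¹ = w⁻¹ →
          z * w * z⁻¹ = w⁻¹ → Commute d w := by
        intro w a' c' hd' h1 h2 h3
        refine mul_inv_eq_iff_eq_mul.1 ?_
        rw [hd']
        calc (a' * c' * z) * w * (a' * c' * z)⁻¹ = a' * (c' * (z * w * z⁻¹) * c'⁻¹) * a'⁻¹ := by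
              group
          _ = w := by rw [h3, ← conj_inv, h2, inv_inv, h1.eq, mul_inv_cancel_right]
      have hv_d : v ∈ theta d := balance hcon ha hd2 (hBc a haB d hdB) hv
        (fixed v a c rfl (commute_of_mem_theta hv) hcv (inv_z a haB ha v hv))
      have hv'_d : v' ∈ theta d := balance hcon hc hd2 (hBc c hcB d hdB) hv'
        (fixed v' c a (by rw [hd, (hBc a haB c hcB).eq]) (commute_of_mem_theta hv') hav
          (inv_z c hcB hc v' hv'))
      exact ab d hdB hd2 v hv_d v' hv'_d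
    exact (c1.mul_right c2).mul_left (c3.mul_right c4)
  have allc : ∀ a ∈ B, orderOf a = 2 → ∀ c ∈ B, orderOf c = 2 →
      ∀ x ∈ theta a, ∀ y ∈ theta c, Commute x y := by
    intro a haB ha c hcB hc x hx y hy
    by_cases hacz : a * c = z
    swap
    · exact pair a haB ha c hcB hc hacz x hx y hy
    obtain ⟨e, heB, he⟩ : ∃ e ∈ B, e ∉ ({1, a, c, a * c} : Set G) := by
      by_contra hcon'
      push Not at hcon'
      classical
      have : Nat.card B ≤ 4 := by
        calc Nat.card B = (B : Set G).ncard := (Nat.card_coe_set_eq _)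
          _ ≤ ({1, a, c, a * c} : Set G).ncard :=
            Set.ncard_le_ncard (fun w hw => hcon' w hw) (Set.toFinite _)
          _ ≤ 4 := by
            refine (Set.ncard_insert_le _ _).trans (Nat.succ_le_succ ?_)
            refine (Set.ncard_insert_le _ _).trans (Nat.succ_le_succ ?_)
            refine (Set.ncard_insert_le _ _).trans (Nat.succ_le_succ ?_)
            rw [Set.ncard_singleton]
      omega
    simp only [Set.mem_insert_iff, Set.mem_singleton_iff, not_or] at he
    obtain ⟨he1, hea, hec, heac⟩ := he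
    rw [hacz] at heac
    have he2 := Invol.orderOf_eq_two (hB2 e heB) he1
    have hze : orderOf (z * e) = 2 := Invol.orderOf_eq_two (hB2 _ (mul_mem hzB heB))
      (fun h1 => heac (mul_left_cancel (h1.trans (Invol.inv_mul_self hz).symm)))
    obtain ⟨u, hu, v, hv, heu, hev, huv⟩ := inverted_decomposition (ab a haB ha)
      (hB2 e heB) (mem_normalizer_theta (hBc e heB a haB)) hx
    have hu_e : u ∈ theta e := balance hcon ha he2 (hBc a haB e heB) hu heu
    have hv_f : v ∈ theta (z * e) := by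
      refine balance hcon ha hze (hBc a haB _ (mul_mem hzB heB)) hv (mul_inv_eq_iff_eq_mul.1 ?_)
      calc (z * e) * v * (z * e)⁻¹ = z * (e * v * e⁻¹) * z⁻¹ := by group
        _ = v := by rw [hev, ← conj_inv, inv_z a haB ha v hv, inv_inv]
    have hac' : a = z * c := by rw [← hacz, mul_assoc, hB2 c hcB, mul_one]
    have hec' : e * c ≠ z := fun h1 => hea (mul_right_cancel (h1.trans hacz.symm))
    have hfc : z * e * c ≠ z := by
      intro h1
      rw [mul_assoc, mul_eq_left] at h1
      exact hec (by rw [mul_eq_one_iff_eq_inv.1 h1, Invol.inv_eq hc])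
    apply comm_of_sq _ _ (theta_odd hx) (theta_odd hy)
    rw [← huv]
    exact ((pair e heB he2 c hcB hc hec' u hu_e y hy).mul_left
      (pair _ (mul_mem hzB heB) hze c hcB hc hfc v hv_f y hy)).pow_right 2
  set U : Set G := {x | ∃ a ∈ B, orderOf a = 2 ∧ x ∈ theta a} with hU
  set X := closure U with hX
  have hcomm : ∀ x ∈ U, ∀ y ∈ X, Commute x y := by
    intro x hx y hy
    obtain ⟨a, haB, ha, hxa⟩ := hx
    induction hy using Subgroup.closure_induction with
    | mem w hw =>
      obtain ⟨c, hcB, hc, hwc⟩ := hw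
      exact allc a haB ha c hcB hc x hxa w hwc
    | one => exact Commute.one_right x
    | mul _ _ _ _ i1 i2 => exact i1.mul_right i2
    | inv _ _ i1 => exact i1.inv_right
  have hodd : ∀ x ∈ X, Odd (orderOf x) ∧ ∀ y ∈ X, Commute x y := by
    intro x hx
    induction hx using Subgroup.closure_induction with
    | mem w hw =>
      obtain ⟨c, -, -, hwc⟩ := id hw
      exact ⟨theta_odd hwc, fun y hy => hcomm w hw y hy⟩
    | one => exact ⟨by simp, fun y _ => Commute.one_left y⟩
    | mul u v hu hv i1 i2 =>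
      exact ⟨(i1.1.mul i2.1).of_dvd_nat (i1.2 v hv).orderOf_mul_dvd_mul_orderOf,
        fun y hy => (i1.2 y hy).mul_left (i2.2 y hy)⟩
    | inv u _ i1 => exact ⟨by rw [orderOf_inv]; exact i1.1, fun y hy => (i1.2 y hy).inv_left⟩
  have hXodd : Odd (Nat.card X) := by
    by_contra hcon'
    rw [Nat.not_odd_iff_even, even_iff_two_dvd] at hcon'
    obtain ⟨w, hw⟩ := exists_prime_orderOf_dvd_card' 2 hcon'
    have h1 := (hodd _ w.2).1
    rw [orderOf_submonoid, hw] at h1
    exact absurd h1 (by decide)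
  have hXinv : (S : Subgroup G) ≤ normalizer (X : Set G) := by
    intro s hs
    have key : ∀ t ∈ (S : Subgroup G), ∀ x ∈ X, t * x * t⁻¹ ∈ X := by
      intro t ht x hx
      induction hx using Subgroup.closure_induction with
      | mem w hw =>
        obtain ⟨a, haB, ha, hwa⟩ := hw
        refine subset_closure ⟨t * a * t⁻¹, (hSB ht a).1 haB,
          by rw [Invol.orderOf_conj]; exact ha, ?_⟩
        rw [← map_theta_conj, Fusion.conj_mem_cj]
        exact hwa
      | one => simp
      | mul u v _ _ i1 i2 => rw [← conj_mul]; exact mul_mem i1 i2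
      | inv u _ i1 => rw [← conj_inv]; exact inv_mem i1
    intro x
    refine ⟨key s hs x, fun h => ?_⟩
    have := key s⁻¹ (inv_mem hs) _ h
    simpa [mul_assoc] using this
  have hX0 := hinv X hXodd hXinv
  refine (eq_bot_iff_forall _).2 fun x hx => ?_
  have h1 : x ∈ X := subset_closure ⟨b, hbB, hb, hx⟩
  rwa [hX0] at h1

/-- In a group of early characteristic 2 type every involution centralizer is `CFCon`. -/
theorem cfcon_centralizer_of_early
    (hcon : ∀ t : G, orderOf t = 2 → Cfsg.IsPConstrained 2 (centralizer ({t} : Set G)))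
    (S : Sylow 2 G) {A : Subgroup G} (hA : Cfsg.IsSCN (S : Subgroup G) A)
    (hA3 : ¬ Cfsg.PRankLE 2 2 ↥A)
    (hinv : ∀ X : Subgroup G, Odd (Nat.card X) → (S : Subgroup G) ≤ normalizer (X : Set G) → X = ⊥)
    {t : G} (ht : orderOf t = 2) : CFCon 2 (centralizer ({t} : Set G)) := by
  suffices h : theta t = ⊥ from
    cfcon_of_isPConstrained (hcon t ht) ((coreIn_eq_bot_iff _).1 h)
  obtain ⟨B, hBS, hSB, hBc, hB2, hB8⟩ := exists_elementary_of_scn S.2 hA hA3
  have hB1 : B ≠ ⊥ := by rintro rfl; rw [Subgroup.card_bot] at hB8; omega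
  obtain ⟨z, hzB, hz, hzS⟩ := exists_involution_center_inf S.2 hBS hSB hB1 hB2
  have core_B := fun (b : G) (hbB : b ∈ B) (hb : orderOf b = 2) =>
    theta_eq_bot_of_mem hcon S hinv hSB hBc hB2 hB8 hzB hz hzS hbB hb
  obtain ⟨g, hg⟩ : ∃ g : G, g * t * g⁻¹ ∈ (S : Subgroup G) := by
    obtain ⟨P, hP⟩ := (isPGroup_zpowers_two ht).exists_le_sylow
    obtain ⟨g, hgP⟩ := Fusion.exists_cj_sylow P S
    exact ⟨g, hgP ▸ Fusion.conj_mem_cj.2 (hP (mem_zpowers t))⟩
  have hw : orderOf (g * t * g⁻¹) = 2 := by rw [Invol.orderOf_conj]; exact ht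
  suffices h : theta (g * t * g⁻¹) = ⊥ by
    rw [← map_theta_conj] at h
    exact (Subgroup.map_eq_bot_iff_of_injective _ (MulAut.conj g).injective).1 h
  set w := g * t * g⁻¹ with hwdef
  have hwn : ∀ x ∈ B, w * x * w⁻¹ ∈ B := fun x hx => (hSB hg x).1 hx
  let Cw : Subgroup G := B ⊓ centralizer ({w} : Set G)
  let φ : B →* Cw :=
    { toFun := fun x => ⟨(x : G) * (w * x * w⁻¹), mul_mem x.2 (hwn x x.2),
        mem_centralizer_singleton_iff.2 (by
          symm
          refine mul_inv_eq_iff_eq_mul.1 ?_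
          calc w * ((x : G) * (w * x * w⁻¹)) * w⁻¹
              = (w * x * w⁻¹) * ((w * w) * x * (w * w)⁻¹) := by group
            _ = (w * x * w⁻¹) * x := by
              rw [Invol.inv_mul_self hw, one_mul, inv_one, mul_one]
            _ = _ := (hBc _ (hwn x x.2) _ x.2).eq)⟩
      map_one' := Subtype.ext (by simp)
      map_mul' := fun x y => Subtype.ext (by
        simp only [Subgroup.coe_mul]
        rw [← conj_mul]
        exact (hBc y y.2 _ (hwn x x.2)).mul_mul_mul_comm (x : G) _) }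
  have hker : Nat.card φ.ker ≤ Nat.card Cw := by
    refine Nat.card_le_card_of_injective
      (fun x => ⟨((x : B) : G), (x : B).2, mem_centralizer_singleton_iff.2 ?_⟩) ?_
    · have h1 : ((x : B) : G) * (w * ((x : B) : G) * w⁻¹) = 1 := congrArg Subtype.val x.2
      have h2 : w * ((x : B) : G) * w⁻¹ = ((x : B) : G) :=
        (eq_inv_of_mul_eq_one_right h1).trans (inv_eq_of_mul_eq_one_left (hB2 _ (x : B).2))
      exact (mul_inv_eq_iff_eq_mul.1 h2).symm
    · intro x y hxy
      exact Subtype.ext (Subtype.ext (congrArg (fun (v : Cw) => (v : G)) hxy))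
  have hBle : Nat.card B ≤ Nat.card Cw * Nat.card Cw := by
    rw [← Subgroup.card_mul_index φ.ker]
    refine Nat.mul_le_mul hker ?_
    rw [Subgroup.index_ker]
    exact Subgroup.card_le_card_group φ.range
  have h3 : 3 ≤ Nat.card Cw := by
    by_contra hcon'
    have h2 : Nat.card Cw ≤ 2 := by omega
    have := Nat.mul_le_mul h2 h2
    omega
  obtain ⟨e, heCw, he⟩ : ∃ e ∈ Cw, e ∉ ({1, z} : Set G) := by
    by_contra hcon'
    push Not at hcon'
    have : Nat.card Cw ≤ 2 :=
      calc Nat.card Cw = (Cw : Set G).ncard := (Nat.card_coe_set_eq _)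
        _ ≤ ({1, z} : Set G).ncard := Set.ncard_le_ncard (fun v hv => hcon' v hv) (Set.toFinite _)
        _ ≤ 2 := by
          refine (Set.ncard_insert_le _ _).trans ?_
          rw [Set.ncard_singleton]
    omega
  simp only [Set.mem_insert_iff, Set.mem_singleton_iff, not_or] at he
  have hew : Commute e w := mem_centralizer_singleton_iff.1 heCw.2
  have hzw : Commute z w := (hzS w hg).symm
  have he2 := Invol.orderOf_eq_two (hB2 e heCw.1) he.1
  have hze : orderOf (z * e) = 2 := Invol.orderOf_eq_two (hB2 _ (mul_mem hzB heCw.1))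
    (fun h1 => he.2 (mul_left_cancel (h1.trans (Invol.inv_mul_self hz).symm)))
  have fpf : ∀ b ∈ B, orderOf b = 2 → Commute b w → ∀ x ∈ theta w, Commute b x → x = 1 := by
    intro b hbB hb hbw x hx hbx
    have h1 := balance hcon hw hb hbw.symm hx hbx
    rwa [core_B b hbB hb] at h1
  exact eq_bot_of_fpf_three (Invol.inv_mul_self hz) (Invol.inv_mul_self he2)
    (hBc z hzB e heCw.1) (mem_normalizer_theta hzw) (mem_normalizer_theta hew)
    (fpf z hzB hz hzw) (fpf e heCw.1 he2 hew)
    (fpf _ (mul_mem hzB heCw.1) hze (hzw.mul_left hew))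

end Cfsg.Agent.CharTwo
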