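import Cfsg.Agent.CharTwo.Constrained
import Cfsg.Agent.Transfer.Frobenius

/-!
# Groups with a modular Sylow 2-subgroup have normal 2-complements
-/

set_option autoImplicit false

namespace Cfsg.Agent.CharTwo

open Subgroup
open Cfsg.Agent

variable {G : Type*} [Group G]

/-- A Sylow subgroup meets a normal subgroup in a subgroup of index prime to `p`. -/
theorem not_dvd_inf_relIndex_normal [Finite G] {p : ℕ} [Fact p.Prime] (S : Sylow p G)
    (C : Subgroup G) [C.Normal] : ¬ p ∣ ((S : Subgroup G) ⊓ C).relIndex C := by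
  have h1 := relIndex_mul_relIndex ((S : Subgroup G) ⊓ C) S ((S : Subgroup G) ⊔ C) inf_le_left
    le_sup_left
  have h2 := relIndex_mul_relIndex ((S : Subgroup G) ⊓ C) C ((S : Subgroup G) ⊔ C) inf_le_right
    le_sup_right
  rw [relIndex_sup_right, ← inf_relIndex_left (H := (S : Subgroup G)) (K := C), ← h1,
    mul_comm] at h2
  have h3 : ((S : Subgroup G) ⊓ C).relIndex C =
      (S : Subgroup G).relIndex ((S : Subgroup G) ⊔ C) :=
    Nat.eq_of_mul_eq_mul_left (Nat.pos_of_ne_zero Subgroup.index_ne_zero_of_finite) h2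
  rw [h3]
  intro hd
  exact S.not_dvd_index (hd.trans (Dvd.intro _
    (relIndex_mul_index (le_sup_left (a := (S : Subgroup G)) (b := C)))))

/-- If `z` is the only involution of the normal subgroup `E` which is a square in
`S ∩ C(E)`, it is central. -/
theorem conj_eq_of_unique_square [Finite G] (S : Sylow 2 G) (E : Subgroup G) [E.Normal]
    {z : G} (hzE : z ∈ E) (hz1 : z ≠ 1)
    (hsq : ∃ x ∈ (S : Subgroup G) ⊓ centralizer (E : Set G), x * x = z)
    (huniq : ∀ x ∈ (S : Subgroup G) ⊓ centralizer (E : Set G), x * x ∈ E → x * x ≠ 1 → x * x = z)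
    (g : G) : g * z * g⁻¹ = z := by
  haveI : Fact (Nat.Prime 2) := ⟨Nat.prime_two⟩
  haveI : (centralizer (E : Set G)).Normal := inferInstance
  set T := (S : Subgroup G) ⊓ centralizer (E : Set G) with hT
  have hTp : IsPGroup 2 T := S.2.to_le inf_le_left
  have hTi : ¬ 2 ∣ T.relIndex (centralizer (E : Set G)) := not_dvd_inf_relIndex_normal S _
  have hcj : Fusion.cj g T ≤ centralizer (E : Set G) := by
    rintro _ ⟨t, ht, rfl⟩
    exact Subgroup.Normal.conj_mem inferInstance t ht.2 g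
  have hgi : ¬ 2 ∣ (Fusion.cj g T).relIndex (centralizer (E : Set G)) := by
    have h1 := relIndex_mul_relIndex ⊥ T _ bot_le (inf_le_right (a := (S : Subgroup G)))
    have h2 := relIndex_mul_relIndex ⊥ (Fusion.cj g T) _ bot_le hcj
    rw [relIndex_bot_left, relIndex_bot_left] at h1 h2
    rw [Fusion.card_cj, ← h1] at h2
    rw [Nat.eq_of_mul_eq_mul_left Nat.card_pos h2]
    exact hTi
  obtain ⟨c, hc, hcT⟩ := Fusion.exists_conj_of_relIndex (Fusion.isPGroup_cj hTp g) hTp hcj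
    inf_le_right hgi hTi
  rw [Fusion.cj_cj] at hcT
  obtain ⟨x, hx, hxz⟩ := hsq
  have hmem : (c * g) * x * (c * g)⁻¹ ∈ T := by rw [← hcT]; exact Fusion.conj_mem_cj.2 hx
  have hsq2 : (c * g) * x * (c * g)⁻¹ * ((c * g) * x * (c * g)⁻¹)
      = (c * g) * z * (c * g)⁻¹ := by rw [← hxz]; group
  have h1 : (c * g) * z * (c * g)⁻¹ = z := by
    rw [← hsq2]
    refine huniq _ hmem ?_ ?_
    · rw [hsq2]; exact Subgroup.Normal.conj_mem inferInstance z hzE _
    · rw [hsq2]
      intro e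
      exact hz1 (conj_eq_one_iff.1 e)
  have h2 : c * (g * z * g⁻¹) * c⁻¹ = g * z * g⁻¹ :=
    mul_inv_eq_iff_eq_mul.2 (hc _ (Subgroup.Normal.conj_mem inferInstance z hzE g)).symm
  rw [← h2]
  simpa [mul_assoc] using h1

/-- The modular relations. -/
structure Modular (S : Subgroup G) (n : ℕ) (a b : G) : Prop where
  three : 3 ≤ n
  amem : a ∈ S
  bmem : b ∈ S
  aord : orderOf a = 2 ^ n
  bord : orderOf b = 2
  rel : b * a * b⁻¹ = a ^ (2 ^ (n - 1) + 1)
  card : Nat.card S = 2 ^ (n + 1)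

variable {S : Subgroup G} {n : ℕ} {a b : G} (h : Modular S n a b)
include h

theorem Modular.bb : b * b = 1 := by rw [← pow_two, ← h.bord]; exact pow_orderOf_eq_one b

theorem Modular.swap (e i : ℕ) :
    b ^ e * a ^ i = a ^ (i * (2 ^ (n - 1) + 1) ^ e) * b ^ e := by
  have h1 : ∀ j : ℕ, b * a ^ j = a ^ (j * (2 ^ (n - 1) + 1)) * b := fun j => by
    rw [← mul_inv_eq_iff_eq_mul, ← conj_pow, h.rel, ← pow_mul, mul_comm]
  induction e generalizing i with
  | zero => simp
  | succ e ih =>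
    rw [pow_succ, mul_assoc, h1, ← mul_assoc, ih, mul_assoc, ← pow_succ,
      mul_assoc i, ← pow_succ']

theorem Modular.mul_rep (i e j f : ℕ) :
    a ^ i * b ^ e * (a ^ j * b ^ f) = a ^ (i + j * (2 ^ (n - 1) + 1) ^ e) * b ^ (e + f) := by
  rw [mul_assoc, ← mul_assoc (b ^ e), h.swap, pow_add, pow_add]
  group

theorem Modular.rep [Finite G] {x : G} (hx : x ∈ S) : ∃ i e : ℕ, x = a ^ i * b ^ e := by
  have ha : zpowers a ≤ S := zpowers_le.2 h.amem
  have hb : b ∉ zpowers a := by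
    rintro ⟨i, hi⟩
    have h1 : Commute b a := hi ▸ (Commute.zpow_self a i)
    have h2 := h.rel
    rw [h1.eq, mul_inv_cancel_right, pow_succ] at h2
    have h3 : a ^ 2 ^ (n - 1) = 1 := by
      have := h2.symm
      rwa [mul_eq_right] at this
    have h4 := orderOf_dvd_of_pow_eq_one h3
    rw [h.aord, Nat.pow_dvd_pow_iff_le_right one_lt_two] at h4
    have := h.three; omega
  have hidx : (zpowers a).relIndex S = 2 := by
    have h1 := relIndex_mul_relIndex ⊥ (zpowers a) S bot_le ha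
    rw [relIndex_bot_left, relIndex_bot_left, Nat.card_zpowers, h.aord, h.card, pow_succ] at h1
    exact Nat.eq_of_mul_eq_mul_left (pow_pos two_pos n) h1
  have hz : ∀ y ∈ zpowers a, ∃ i : ℕ, y = a ^ i := fun y hy => by
    obtain ⟨i, hi⟩ := mem_powers_iff_mem_zpowers.2 hy
    exact ⟨i, hi.symm⟩
  by_cases hxa : x ∈ zpowers a
  · obtain ⟨i, hi⟩ := hz x hxa
    exact ⟨i, 0, by simp [hi]⟩
  · have h2 : ((zpowers a).subgroupOf S).index = 2 := hidx
    have h3 := (Subgroup.mul_mem_iff_of_index_two h2 (a := ⟨x, hx⟩) (b := ⟨b, h.bmem⟩)).2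
      (iff_of_false hxa hb)
    obtain ⟨i, hi⟩ := hz (x * b) h3
    exact ⟨i, 1, by rw [pow_one, ← hi, mul_assoc, h.bb, mul_one]⟩

theorem Modular.odd_r (e : ℕ) : ¬ 2 ∣ (2 ^ (n - 1) + 1) ^ e := by
  intro hd
  have h1 := Nat.prime_two.dvd_of_dvd_pow hd
  have h2 : 2 ∣ 2 ^ (n - 1) := dvd_pow_self 2 (by have := h.three; omega)
  omega

theorem Modular.pow_iff (i e k : ℕ) (hk : 1 ≤ k) :
    (a ^ i * b ^ e) ^ 2 ^ k = 1 ↔ 2 ^ (n - k) ∣ i := by
  have hn := h.three
  obtain ⟨k, rfl⟩ := Nat.exists_eq_add_of_le' hk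
  have hb2 : b ^ (e + e) = 1 := by
    rw [← two_mul, pow_mul, pow_two, h.bb, one_pow]
  rw [pow_succ', pow_mul, pow_two, h.mul_rep, hb2, mul_one, ← pow_mul,
    ← orderOf_dvd_iff_pow_eq_one, h.aord]
  -- the exponent is `i * u * 2 ^ (k + 1)` with `u` odd
  obtain ⟨u, hu, huo⟩ : ∃ u, 1 + (2 ^ (n - 1) + 1) ^ e = 2 * u ∧ ¬ 2 ∣ u := by
    have h4 : 4 ∣ 2 ^ (n - 1) := by
      obtain ⟨m, hm⟩ : ∃ m, n - 1 = m + 2 := ⟨n - 3, by omega⟩
      rw [hm, pow_add]; exact dvd_mul_left _ _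
    have hmod : (2 ^ (n - 1) + 1) % 4 = 1 := by omega
    have hm2 : (2 ^ (n - 1) + 1) ^ e % 4 = 1 := by simp [Nat.pow_mod, hmod]
    refine ⟨(1 + (2 ^ (n - 1) + 1) ^ e) / 2, ?_, ?_⟩ <;> omega
  have he : (i + i * (2 ^ (n - 1) + 1) ^ e) * 2 ^ k = u * (i * 2 ^ (k + 1)) := by
    calc (i + i * (2 ^ (n - 1) + 1) ^ e) * 2 ^ k
        = i * (1 + (2 ^ (n - 1) + 1) ^ e) * 2 ^ k := by ring
      _ = _ := by rw [hu]; ring
  rw [he]
  have hco : Nat.Coprime (2 ^ n) u := (Nat.prime_two.coprime_iff_not_dvd.2 huo).pow_left n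
  rw [hco.dvd_mul_left]
  rcases le_total (k + 1) n with hle | hle
  · conv_lhs => rw [show n = (n - (k + 1)) + (k + 1) by omega, pow_add]
    exact Nat.mul_dvd_mul_iff_right (pow_pos two_pos _)
  · rw [Nat.sub_eq_zero_of_le hle, pow_zero]
    exact iff_of_true ((pow_dvd_pow 2 hle).trans (dvd_mul_left _ _)) (one_dvd _)

theorem Modular.pow_mul_eq_one [Finite G] {k : ℕ} (hk : 1 ≤ k) {x y : G} (hx : x ∈ S) (hy : y ∈ S)
    (hxk : x ^ 2 ^ k = 1) (hyk : y ^ 2 ^ k = 1) : (x * y) ^ 2 ^ k = 1 := by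
  obtain ⟨i, e, rfl⟩ := h.rep hx
  obtain ⟨j, f, rfl⟩ := h.rep hy
  rw [h.pow_iff _ _ _ hk] at hxk hyk
  rw [h.mul_rep, h.pow_iff _ _ _ hk]
  exact Nat.dvd_add hxk (Dvd.dvd.mul_right hyk _)

theorem Modular.pow_mul_eq_one_of_ne [Finite G] {k : ℕ} (hk : 1 ≤ k) {x y : G} (hx : x ∈ S)
    (hy : y ∈ S) (hx1 : x ^ 2 ^ (k + 1) = 1) (hy1 : y ^ 2 ^ (k + 1) = 1)
    (hxk : ¬ x ^ 2 ^ k = 1) (hyk : ¬ y ^ 2 ^ k = 1) : (x * y) ^ 2 ^ k = 1 := by
  obtain ⟨i, e, rfl⟩ := h.rep hx
  obtain ⟨j, f, rfl⟩ := h.rep hy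
  rw [h.pow_iff _ _ _ hk] at hxk hyk
  rw [h.pow_iff _ _ _ (Nat.le_add_left 1 k)] at hx1 hy1
  rw [h.mul_rep, h.pow_iff _ _ _ hk]
  by_cases hle : n ≤ k
  · rw [Nat.sub_eq_zero_of_le hle, pow_zero]; exact one_dvd _
  rw [show n - k = n - (k + 1) + 1 by omega, pow_succ] at hxk hyk ⊢
  obtain ⟨u, rfl⟩ := hx1
  obtain ⟨v, rfl⟩ := hy1
  rw [Nat.mul_dvd_mul_iff_left (pow_pos two_pos _)] at hxk hyk
  rw [mul_assoc, ← mul_add, Nat.mul_dvd_mul_iff_left (pow_pos two_pos _)]
  have h1 : ¬ 2 ∣ v * (2 ^ (n - 1) + 1) ^ e := fun hd =>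
    (Nat.prime_two.dvd_mul.1 hd).elim hyk (h.odd_r e)
  omega

omit h in
/-- The elements of `S` of order dividing `2 ^ k`. -/
def Modular.omega [Finite G] (h : Modular S n a b) (k : ℕ) (hk : 1 ≤ k) : Subgroup G where
  carrier := {x | x ∈ S ∧ x ^ 2 ^ k = 1}
  one_mem' := ⟨S.one_mem, one_pow _⟩
  mul_mem' hx hy := ⟨S.mul_mem hx.1 hy.1, h.pow_mul_eq_one hk hx.1 hy.1 hx.2 hy.2⟩
  inv_mem' hx := ⟨S.inv_mem hx.1, by rw [inv_pow, hx.2, inv_one]⟩

theorem Modular.mem_omega_one [Finite G] {x : G} (hx : x ∈ S) (hx2 : x * x = 1) :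
    x = 1 ∨ x = a ^ 2 ^ (n - 1) ∨ x = b ∨ x = a ^ 2 ^ (n - 1) * b := by
  obtain ⟨i, e, rfl⟩ := h.rep hx
  have hd := (h.pow_iff i e 1 le_rfl).1 (by simpa [pow_two] using hx2)
  obtain ⟨c, rfl⟩ := hd
  have ha2 : a ^ (2 ^ (n - 1) * 2) = 1 := by
    rw [← pow_succ, show n - 1 + 1 = n by have := h.three; omega, ← h.aord, pow_orderOf_eq_one]
  have hac : a ^ (2 ^ (n - 1) * c) = 1 ∨ a ^ (2 ^ (n - 1) * c) = a ^ 2 ^ (n - 1) := by
    rcases c.even_or_odd with ⟨d, rfl⟩ | ⟨d, rfl⟩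
    · left; rw [← two_mul, ← mul_assoc, pow_mul, ha2, one_pow]
    · right; rw [mul_add, mul_one, pow_add, ← mul_assoc, pow_mul, ha2, one_pow, one_mul]
  have hbe : b ^ e = 1 ∨ b ^ e = b := by
    rcases e.even_or_odd with ⟨d, rfl⟩ | ⟨d, rfl⟩
    · left; rw [← two_mul, pow_mul, pow_two, h.bb, one_pow]
    · right; rw [pow_succ, pow_mul, pow_two, h.bb, one_pow, one_mul]
  rcases hac with e1 | e1 <;> rcases hbe with e2 | e2 <;> simp [e1, e2]

theorem Modular.sq_eq_one_or [Finite G] {x : G} (hx : x ∈ S) (hx2 : (x * x) * (x * x) = 1) :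
    x * x = 1 ∨ x * x = a ^ 2 ^ (n - 1) := by
  have hxS : x * x ∈ S := S.mul_mem hx hx
  obtain ⟨i, e, rfl⟩ := h.rep hx
  rw [h.mul_rep, ← two_mul, pow_mul, pow_two, h.bb, one_pow, mul_one] at hxS hx2 ⊢
  set m := i + i * (2 ^ (n - 1) + 1) ^ e
  have hd : 2 ^ (n - 1) ∣ m := by
    have := (h.pow_iff m 0 1 le_rfl).1 (by simpa [pow_two] using hx2)
    exact this
  obtain ⟨c, hc⟩ := hd
  have ha2 : a ^ (2 ^ (n - 1) * 2) = 1 := by
    rw [← pow_succ, show n - 1 + 1 = n by have := h.three; omega, ← h.aord, pow_orderOf_eq_one]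
  rw [hc]
  rcases c.even_or_odd with ⟨d, rfl⟩ | ⟨d, rfl⟩
  · left; rw [← two_mul, ← mul_assoc, pow_mul, ha2, one_pow]
  · right; rw [mul_add, mul_one, pow_add, ← mul_assoc, pow_mul, ha2, one_pow, one_mul]

theorem Modular.z_data [Finite G] :
    a ^ 2 ^ (n - 2) * a ^ 2 ^ (n - 2) = a ^ 2 ^ (n - 1) ∧ a ^ 2 ^ (n - 1) ≠ 1 ∧
      Commute (a ^ 2 ^ (n - 2)) b := by
  have hn := h.three
  refine ⟨?_, ?_, ?_⟩
  · rw [← pow_add, ← two_mul, ← pow_succ', show n - 2 + 1 = n - 1 by omega]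
  · rw [Ne, ← orderOf_dvd_iff_pow_eq_one, h.aord, Nat.pow_dvd_pow_iff_le_right one_lt_two]
    omega
  · have h1 := h.swap 1 (2 ^ (n - 2))
    simp only [pow_one] at h1
    have h2 : a ^ (2 ^ (n - 2) * (2 ^ (n - 1) + 1)) = a ^ 2 ^ (n - 2) := by
      have h3 : 2 ^ n ∣ 2 ^ (n - 2) * 2 ^ (n - 1) := by
        rw [← pow_add]; exact pow_dvd_pow 2 (by omega)
      rw [mul_add, mul_one, pow_add,
        orderOf_dvd_iff_pow_eq_one.1 (h.aord.symm ▸ h3), one_mul]
    rw [h2] at h1
    exact h1.symm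

omit h in
theorem Modular.hasNormalPComplement [Finite G] (P : Sylow 2 G)
    (h : Modular (P : Subgroup G) n a b) : Cfsg.HasNormalPComplement 2 G := by
  haveI : Fact (Nat.Prime 2) := ⟨Nat.prime_two⟩
  have hn := h.three
  obtain ⟨hzsq, hz1, hcb⟩ := h.z_data
  set z := a ^ 2 ^ (n - 1) with hz
  have key : ∀ k : ℕ, ∀ Q : Subgroup G, Q ≤ P → (∀ x ∈ Q, x ^ 2 ^ (k + 1) = 1) →
      ∀ g ∈ normalizer (Q : Set G), Nat.Coprime (orderOf g) 2 → ∀ x ∈ Q, Commute g x := by
    intro k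
    induction k with
    | zero =>
      intro Q hQ hQ2 g hg hgo x hx
      set E := h.omega 1 le_rfl with hE
      have hQE : Q ≤ E := fun y hy => ⟨hQ hy, hQ2 y hy⟩
      have hmemE : ∀ y ∈ E, y = 1 ∨ y = z ∨ y = b ∨ y = z * b := fun y hy =>
        h.mem_omega_one hy.1 (by have := hy.2; rwa [pow_one, pow_two] at this)
      by_cases hEQ : E ≤ Q
      · have hQeq : Q = E := le_antisymm hQE hEQ
        have haS : a ^ 2 ^ (n - 2) ∈ (P : Subgroup G) := pow_mem h.amem _
        have hzE : z ∈ E := ⟨pow_mem h.amem _, by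
          rw [pow_one, hz, ← pow_mul, ← pow_succ, show n - 1 + 1 = n by omega, ← h.aord,
            pow_orderOf_eq_one]⟩
        have haC : a ^ 2 ^ (n - 2) ∈ centralizer (E : Set G) := by
          intro y hy
          rcases hmemE y hy with rfl | rfl | rfl | rfl
          · simp
          · exact (Commute.pow_pow_self a _ _).eq
          · exact hcb.symm.eq
          · exact ((Commute.pow_pow_self a _ _).mul_left hcb.symm).eq
        have hgz : g * z * g⁻¹ = z := by
          set M := normalizer (E : Set G) with hM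
          have hPM : (P : Subgroup G) ≤ M := by
            intro y hy w
            constructor
            · intro hw
              exact ⟨mul_mem (mul_mem hy hw.1) (inv_mem hy), by rw [conj_pow, hw.2]; simp⟩
            · intro hw
              have e : w = y⁻¹ * (y * w * y⁻¹) * y := by group
              refine ⟨e ▸ mul_mem (mul_mem (inv_mem hy) hw.1) hy, ?_⟩
              have := hw.2
              rw [conj_pow, conj_eq_one_iff] at this
              exact this
          haveI : (E.subgroupOf M).Normal := normal_in_normalizer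
          have hEM : E ≤ M := le_normalizer
          have := conj_eq_of_unique_square (P.subtype hPM) (E.subgroupOf M)
            (z := ⟨z, hEM hzE⟩) hzE (fun e => hz1 (congrArg Subtype.val e))
            ⟨⟨a ^ 2 ^ (n - 2), hPM haS⟩, ⟨haS, fun y hy => Subtype.ext (haC (y : G) hy)⟩,
              Subtype.ext hzsq⟩
            (fun y hy hyE hy1 => Subtype.ext ((h.sq_eq_one_or (x := (y : G)) hy.1 (by
              have h2 := hyE.2
              simpa [pow_two] using h2)).resolve_left (fun e => hy1 (Subtype.ext e))))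
            ⟨g, by rw [hM, ← hQeq]; exact hg⟩
          exact congrArg Subtype.val this
        have hcz : Commute g z := mul_inv_eq_iff_eq_mul.1 hgz
        have hcases : x = 1 ∨ x = z ∨ x = b ∨ x = z * b := hmemE x (hQE hx)
        have hgb : Commute g b := by
          have hbE : b ∈ E := ⟨h.bmem, by rw [pow_one, pow_two, h.bb]⟩
          have hgbE : g * b * g⁻¹ ∈ E := hQE ((hg b).1 (hEQ hbE))
          have hb1 : b ≠ 1 := fun e => by have := h.bord; rw [e, orderOf_one] at this; omega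
          rcases hmemE _ hgbE with e | e | e | e
          · exact absurd (conj_eq_one_iff.1 e) hb1
          · exfalso
            have hbz : b = z := by
              apply mul_left_cancel (a := g)
              apply mul_right_cancel (b := g⁻¹)
              rw [e, hgz]
            have h2 := h.rel
            have hba : Commute b a := by rw [hbz, hz]; exact Commute.pow_self a _
            rw [hba.eq, mul_inv_cancel_right, pow_succ] at h2
            exact hz1 (mul_eq_right.1 h2.symm)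
          · exact mul_inv_eq_iff_eq_mul.1 e
          · refine commute_of_conj_eq_mul (p := 2) (t := z) ⟨1, ?_⟩ hgo hcz e
            rw [pow_one]
            have := hzE.2
            rwa [pow_one] at this
        rcases hcases with rfl | rfl | rfl | rfl
        · exact Commute.one_right g
        · exact hcz
        · exact hgb
        · exact hcz.mul_right hgb
      · -- a proper subgroup of `E`
        by_contra hne
        set y := g * x * g⁻¹ with hy
        have hyQ : y ∈ Q := (hg x).1 hx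
        have hx1 : x ≠ 1 := fun e => hne (e ▸ Commute.one_right g)
        have hy1 : y ≠ 1 := fun e => hx1 (conj_eq_one_iff.1 e)
        have hxy : x ≠ y := fun e => hne (mul_inv_eq_iff_eq_mul.1 e.symm)
        have h3 : ({1, x, y} : Set G).ncard = 3 :=
          Set.ncard_eq_three.2 ⟨1, x, y, hx1.symm, hy1.symm, hxy, rfl⟩
        have h4 : ({1, x, y} : Set G).ncard ≤ Nat.card Q := by
          rw [← SetLike.coe_sort_coe, Nat.card_coe_set_eq]
          exact Set.ncard_le_ncard (by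
            rintro w (rfl | rfl | rfl) <;> [exact Q.one_mem; exact hx; exact hyQ])
        have h5 : Nat.card E ≤ 4 := by
          rw [← SetLike.coe_sort_coe, Nat.card_coe_set_eq]
          refine le_trans (Set.ncard_le_ncard (t := {1, z, b, z * b}) fun w hw => ?_) ?_
          · simpa using hmemE w hw
          · refine (Set.ncard_insert_le _ _).trans ?_
            refine Nat.add_le_add_right ((Set.ncard_insert_le _ _).trans ?_) 1
            exact Nat.add_le_add_right ((Set.ncard_insert_le _ _).trans (by simp)) 1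
        have h6 : Nat.card Q < Nat.card E :=
          Fusion.card_lt_card (lt_of_le_of_ne hQE fun e => hEQ e.ge)
        have h7 : Nat.card Q ∣ Nat.card E := card_dvd_of_le hQE
        obtain ⟨d, hd⟩ := h7
        rcases d with _ | _ | d <;> nlinarith
    | succ k ih =>
      intro Q hQ hQk g hg hgo x hx
      have hsub : ∀ y ∈ Q, y ^ 2 ^ (k + 1) = 1 → Commute g y := by
        intro y hy hyk
        refine ih (Q ⊓ h.omega (k + 1) (Nat.le_add_left 1 k)) (inf_le_left.trans hQ)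
          (fun w hw => hw.2.2) g ?_ hgo y ⟨hy, hQ hy, hyk⟩
        intro w
        constructor
        · intro hw
          refine ⟨(hg w).1 hw.1, hQ ((hg w).1 hw.1), ?_⟩
          rw [conj_pow, hw.2.2]; simp
        · intro hw
          refine ⟨(hg w).2 hw.1, hQ ((hg w).2 hw.1), ?_⟩
          have := hw.2.2
          rw [conj_pow, conj_eq_one_iff] at this
          exact this
      by_cases hxk : x ^ 2 ^ (k + 1) = 1
      · exact hsub x hx hxk
      have hyQ : g * x * g⁻¹ ∈ Q := (hg x).1 hx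
      have hyk : ¬ (g * x * g⁻¹) ^ 2 ^ (k + 1) = 1 := by
        rw [conj_pow, conj_eq_one_iff]; exact hxk
      have hxk' : ¬ x⁻¹ ^ 2 ^ (k + 1) = 1 := by rw [inv_pow, inv_eq_one]; exact hxk
      have ht := h.pow_mul_eq_one_of_ne (Nat.le_add_left 1 k) (hQ hyQ) (hQ (Q.inv_mem hx))
        (hQk _ hyQ) (hQk _ (Q.inv_mem hx)) hyk hxk'
      exact commute_of_conj_eq_mul (p := 2) (t := g * x * g⁻¹ * x⁻¹) ⟨k + 1, ht⟩ hgo
        (hsub _ (Q.mul_mem hyQ (Q.inv_mem hx)) ht) (by simp)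
  refine Transfer.hasNormalPComplement_of_coprime_centralize fun Q hQ _ g hg hgo => ?_
  obtain ⟨R, hR⟩ := hQ.exists_le_sylow
  obtain ⟨c, hc⟩ := Fusion.exists_cj_sylow R P
  intro x hx
  have hx' : c * x * c⁻¹ ∈ Fusion.cj c Q := Fusion.conj_mem_cj.2 hx
  have hcg : c * g * c⁻¹ ∈ normalizer (Fusion.cj c Q : Set G) := by
    rw [← Fusion.cj_normalizer]; exact Fusion.conj_mem_cj.2 hg
  have hcgo : Nat.Coprime (orderOf (c * g * c⁻¹)) 2 := by
    rw [show orderOf (c * g * c⁻¹) = orderOf g from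
      orderOf_injective (MulAut.conj c).toMonoidHom (MulAut.conj c).injective g]
    exact hgo
  have hQP : Fusion.cj c Q ≤ P := hc ▸ Fusion.cj_mono c hR
  have := key n (Fusion.cj c Q) hQP (fun y hy => by
    obtain ⟨i, e, rfl⟩ := h.rep (hQP hy)
    rw [h.pow_iff _ _ _ (Nat.le_add_left 1 n), Nat.sub_eq_zero_of_le (Nat.le_succ n), pow_zero]
    exact one_dvd _) _ hcg hcgo _ hx'
  have e := congrArg (fun w => c⁻¹ * w * c) this.eq
  calc x * g = c⁻¹ * (c * x * c⁻¹ * (c * g * c⁻¹)) * c := by group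
    _ = c⁻¹ * (c * g * c⁻¹ * (c * x * c⁻¹)) * c := e.symm
    _ = g * x := by group

end Cfsg.Agent.CharTwo
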