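import Cfsg.Agent.Linear.GLTwo
import Mathlib.FieldTheory.Finite.Basic
import Mathlib.GroupTheory.NoncommCoprod

/-!
# Involutions of a central product of two copies of `SL₂`, odd characteristic
-/

set_option autoImplicit false

namespace Cfsg.Agent.CharTwo

open Matrix
open scoped MatrixGroups

variable {F : Type*} [Field F] [Fintype F]

/-- The standard element with square `-1`. -/
def slJ : SL(2, F) := ⟨!![0, -1; 1, 0], by rw [Matrix.det_fin_two]; simp⟩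

theorem slJ_mul_self : (slJ : SL(2, F)) * slJ = -1 := by
  apply Subtype.ext
  change !![(0 : F), -1; 1, 0] * !![(0 : F), -1; 1, 0] = -(1 : Matrix (Fin 2) (Fin 2) F)
  ext i j
  fin_cases i <;> fin_cases j <;> simp [Matrix.mul_apply, Fin.sum_univ_two]

theorem exists_sq_add_sq (hF : Odd (Fintype.card F)) (c : F) : ∃ u v : F, u * u + v * v = c := by
  obtain ⟨a, b, h⟩ := FiniteField.exists_root_sum_quadratic (R := F)
    (f := (Polynomial.X : Polynomial F) ^ 2) (g := (Polynomial.X : Polynomial F) ^ 2 - Polynomial.C c)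
    (Polynomial.degree_X_pow 2) (Polynomial.degree_X_pow_sub_C (by norm_num) c)
    (Nat.odd_iff.1 hF)
  exact ⟨a, b, by simp at h; linear_combination h⟩

/-- All elements of `SL₂(q)`, `q` odd, with square `-1` are conjugate. -/
theorem exists_conj_slJ (hF : Odd (Fintype.card F)) {A : SL(2, F)} (hA : A * A = -1) :
    ∃ P : SL(2, F), P * slJ * P⁻¹ = A := by
  have h2 : (2 : F) ≠ 0 := Linear.two_ne_zero_of_odd_card hF
  have hinv : A⁻¹ = -A := inv_eq_of_mul_eq_one_right (by rw [mul_neg, hA, neg_neg])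
  have hadj := congrArg (fun g : SL(2, F) => (g : Matrix (Fin 2) (Fin 2) F)) hinv
  simp only [Matrix.SpecialLinearGroup.coe_inv, Matrix.SpecialLinearGroup.coe_neg] at hadj
  rw [Matrix.adjugate_fin_two] at hadj
  have hd' : A 1 1 = -A 0 0 := congrFun (congrFun hadj 0) 0
  have hdet : A 0 0 * A 1 1 - A 0 1 * A 1 0 = 1 := by rw [← Matrix.det_fin_two]; exact A.2
  rw [hd'] at hdet
  obtain ⟨x, y, hxy⟩ : ∃ x y : F,
      x * (A 1 0 * x - A 0 0 * y) - y * (A 0 0 * x + A 0 1 * y) = 1 := by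
    by_cases hc : A 1 0 = 0
    · rw [hc] at hdet ⊢
      have ha : A 0 0 ≠ 0 := fun e => by rw [e] at hdet; simp at hdet
      refine ⟨-(1 + A 0 1) / (2 * A 0 0), 1, ?_⟩
      field_simp
      ring
    · obtain ⟨u, v, huv⟩ := exists_sq_add_sq hF (A 1 0)
      refine ⟨(u + A 0 0 * v) / A 1 0, v, ?_⟩
      field_simp
      linear_combination huv + v * v * hdet
  let P : SL(2, F) := ⟨!![x, A 0 0 * x + A 0 1 * y; y, A 1 0 * x - A 0 0 * y], by
    rw [Matrix.det_fin_two]; simp; linear_combination hxy⟩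
  refine ⟨P, ?_⟩
  rw [mul_inv_eq_iff_eq_mul]
  apply Subtype.ext
  change !![x, A 0 0 * x + A 0 1 * y; y, A 1 0 * x - A 0 0 * y] * !![(0 : F), -1; 1, 0] =
    (A : Matrix (Fin 2) (Fin 2) F) * !![x, A 0 0 * x + A 0 1 * y; y, A 1 0 * x - A 0 0 * y]
  ext i j
  fin_cases i <;> fin_cases j <;> simp [Matrix.mul_apply, Fin.sum_univ_two, hd']
  · linear_combination x * hdet
  · ring
  · linear_combination y * hdet

variable {G : Type*} [Group G]

theorem neg_one_of_involution {L : Subgroup G} (hF : Odd (Fintype.card F))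
    (e : ↥L ≃* SL(2, F)) {x : L} (h1 : (x : G) ≠ 1) (hx : (x : G) * x = 1) : e x = -1 := by
  refine Subtype.ext ?_
  rw [Linear.eq_neg_one_of_mul_self (Linear.two_ne_zero_of_odd_card hF) (g := e x) ?_ ?_]
  · simp
  · exact fun h => h1 (by simpa using congrArg Subtype.val (e.injective (h.trans e.map_one.symm)))
  · rw [← map_mul, show x * x = 1 from Subtype.ext hx, map_one]

theorem conj_class_sq_eq (hF : Odd (Fintype.card F)) {L : Subgroup G} (e : ↥L ≃* SL(2, F))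
    {j : G} (hjL : j ∈ L) (hj : j * j = 1) (hj1 : j ≠ 1) :
    ∃ x₀ ∈ L, x₀ * x₀ = j ∧ ∀ x ∈ L, x * x = j → ∃ g ∈ L, g * x₀ * g⁻¹ = x := by
  have hje : e ⟨j, hjL⟩ = -1 := neg_one_of_involution hF e (x := ⟨j, hjL⟩) hj1 hj
  refine ⟨(e.symm slJ : G), (e.symm slJ).2, ?_, ?_⟩
  · rw [← Subgroup.coe_mul, ← map_mul, slJ_mul_self, ← hje, MulEquiv.symm_apply_apply]
  · intro x hx hxx
    obtain ⟨P, hP⟩ := exists_conj_slJ hF (A := e ⟨x, hx⟩) (by
      rw [← map_mul, ← hje]; congr 1; exact Subtype.ext hxx)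
    refine ⟨(e.symm P : G), (e.symm P).2, ?_⟩
    have := congrArg (fun z => (e.symm z : G)) hP
    simpa using this

/-- A central product of two `SL₂` in odd characteristic has two classes of involutions. -/
theorem sl_pair_involutions {F₁ : Type*} [Field F₁] [Fintype F₁] {F₂ : Type*} [Field F₂]
    [Fintype F₂] (hF₁ : Odd (Fintype.card F₁)) (hF₂ : Odd (Fintype.card F₂)) (L₁ L₂ : Subgroup G)
    (e₁ : ↥L₁ ≃* SL(2, F₁)) (e₂ : ↥L₂ ≃* SL(2, F₂))
    (hc : ∀ x ∈ L₁, ∀ y ∈ L₂, x * y = y * x) (j : G) (hj : orderOf j = 2)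
    (hm : L₁ ⊓ L₂ = Subgroup.zpowers j) :
    ∃ x ∈ L₁ ⊔ L₂, orderOf x = 2 ∧ x ≠ j ∧
      ∀ y ∈ L₁ ⊔ L₂, orderOf y = 2 → y = j ∨ ∃ g ∈ L₁ ⊔ L₂, g * x * g⁻¹ = y := by
  have hj1 : j ≠ 1 := fun h => by rw [h, orderOf_one] at hj; omega
  have hjj : j * j = 1 := by rw [← pow_two, ← hj]; exact pow_orderOf_eq_one j
  have hjm : j ∈ L₁ ⊓ L₂ := hm ▸ Subgroup.mem_zpowers j
  have hmem : ∀ z ∈ L₁ ⊓ L₂, z = 1 ∨ z = j := by
    intro z hz
    rw [hm] at hz
    obtain ⟨i, rfl⟩ := hz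
    rcases Int.even_or_odd i with ⟨k, rfl⟩ | ⟨k, rfl⟩
    · left; dsimp only; rw [_root_.zpow_add, ← (Commute.refl j).mul_zpow, hjj, _root_.one_zpow]
    · right; dsimp only; rw [_root_.zpow_add_one, _root_.zpow_mul,
        show j ^ (2 : ℤ) = 1 from (zpow_two j).trans hjj, _root_.one_zpow, one_mul]
  obtain ⟨x₀, hx₀, hx₀2, hx₀c⟩ := conj_class_sq_eq hF₁ e₁ hjm.1 hjj hj1
  obtain ⟨y₀, hy₀, hy₀2, hy₀c⟩ := conj_class_sq_eq hF₂ e₂ hjm.2 hjj hj1
  have hne : x₀ * y₀ ≠ 1 ∧ x₀ * y₀ ≠ j := by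
    have key : ∀ z, (z = 1 ∨ z = j) → x₀ * y₀ ≠ z := by
      intro z hz e
      have hzL : z ∈ L₂ := by rcases hz with rfl | rfl; exacts [L₂.one_mem, hjm.2]
      have h1 : x₀ ∈ L₁ ⊓ L₂ :=
        ⟨hx₀, by rw [eq_mul_inv_of_mul_eq e]; exact L₂.mul_mem hzL (L₂.inv_mem hy₀)⟩
      rcases hmem _ h1 with h | h <;> rw [h] at hx₀2
      · exact hj1 (by simpa using hx₀2.symm)
      · exact hj1 (hjj ▸ hx₀2).symm
    exact ⟨key 1 (Or.inl rfl), key j (Or.inr rfl)⟩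
  have hsq : ∀ a ∈ L₁, ∀ b ∈ L₂, (a * b) * (a * b) = (a * a) * (b * b) := by
    intro a ha b hb
    calc (a * b) * (a * b) = a * (b * a) * b := by group
      _ = _ := by rw [← hc a ha b hb]; group
  refine ⟨x₀ * y₀, Subgroup.mul_mem_sup hx₀ hy₀, orderOf_eq_prime (by
    rw [pow_two, hsq _ hx₀ _ hy₀, hx₀2, hy₀2, hjj]) hne.1, hne.2, ?_⟩
  intro y hy hyo
  rw [← Subgroup.range_subtype L₁, ← Subgroup.range_subtype L₂,
    ← MonoidHom.noncommCoprod_range L₁.subtype L₂.subtype (fun a b => hc a a.2 b b.2)] at hy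
  obtain ⟨⟨⟨a, ha⟩, b, hb⟩, rfl⟩ := hy
  change orderOf (a * b) = 2 at hyo
  change a * b = j ∨ ∃ g ∈ L₁ ⊔ L₂, g * (x₀ * y₀) * g⁻¹ = a * b
  have h2 : (a * a) * (b * b) = 1 := by
    rw [← hsq a ha b hb, ← pow_two, ← hyo]; exact pow_orderOf_eq_one _
  have haa : a * a ∈ L₁ ⊓ L₂ :=
    ⟨L₁.mul_mem ha ha, by
      rw [eq_inv_of_mul_eq_one_left h2]; exact L₂.inv_mem (L₂.mul_mem hb hb)⟩
  rcases hmem _ haa with h | h
  · rw [h, one_mul] at h2
    have ha' : a = 1 ∨ a = j := by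
      refine or_iff_not_imp_left.2 fun ha1 => ?_
      have e1 := neg_one_of_involution hF₁ e₁ (x := ⟨a, ha⟩) ha1 h
      have e2 := neg_one_of_involution hF₁ e₁ (x := ⟨j, hjm.1⟩) hj1 hjj
      exact congrArg Subtype.val (e₁.injective (e1.trans e2.symm))
    have hb' : b = 1 ∨ b = j := by
      refine or_iff_not_imp_left.2 fun hb1 => ?_
      have e1 := neg_one_of_involution hF₂ e₂ (x := ⟨b, hb⟩) hb1 h2
      have e2 := neg_one_of_involution hF₂ e₂ (x := ⟨j, hjm.2⟩) hj1 hjj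
      exact congrArg Subtype.val (e₂.injective (e1.trans e2.symm))
    have hy1 : a * b ≠ 1 := fun e => by rw [e, orderOf_one] at hyo; omega
    left
    rcases ha' with rfl | rfl <;> rcases hb' with rfl | rfl <;> simp_all
  · rw [h] at h2
    have hbb : b * b = j := by
      calc b * b = j * (j * (b * b)) := by rw [← mul_assoc, hjj, one_mul]
        _ = j := by rw [h2, mul_one]
    obtain ⟨g, hg, hga⟩ := hx₀c a ha h
    obtain ⟨k, hk, hkb⟩ := hy₀c b hb hbb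
    refine Or.inr ⟨g * k, Subgroup.mul_mem_sup hg hk, ?_⟩
    calc g * k * (x₀ * y₀) * (g * k)⁻¹ = g * (k * x₀) * y₀ * k⁻¹ * g⁻¹ := by group
      _ = g * x₀ * (k * y₀ * k⁻¹) * g⁻¹ := by rw [← hc x₀ hx₀ k hk]; group
      _ = g * x₀ * b * g⁻¹ := by rw [hkb]
      _ = g * x₀ * (b * g⁻¹) := by group
      _ = g * x₀ * (g⁻¹ * b) := by rw [← hc g⁻¹ (inv_mem hg) b hb]
      _ = a * b := by rw [← hga]; group

end Cfsg.Agent.CharTwo
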