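import Cfsg.Agent.CharTwo.SLPair
import Mathlib.GroupTheory.Commutator.Basic

/-!
# Elements normalizing a central product of two `SL₂`
-/

set_option autoImplicit false

namespace Cfsg.Agent.CharTwo

open Matrix
open scoped MatrixGroups

variable {F : Type*} [Field F] [Fintype F]

/-- Scalar elements of `SL₂`. -/
def SLScal (g : SL(2, F)) : Prop := g 0 1 = 0 ∧ g 1 0 = 0 ∧ g 0 0 = g 1 1

theorem sl_entries {x y : SL(2, F)} (h : x * y = y * x) :
    x 0 1 * y 1 0 = x 1 0 * y 0 1 ∧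
    x 0 1 * (y 0 0 - y 1 1) = y 0 1 * (x 0 0 - x 1 1) ∧
    x 1 0 * (y 0 0 - y 1 1) = y 1 0 * (x 0 0 - x 1 1) := by
  have h' : (x : Matrix (Fin 2) (Fin 2) F) * (y : Matrix (Fin 2) (Fin 2) F)
      = (y : Matrix (Fin 2) (Fin 2) F) * (x : Matrix (Fin 2) (Fin 2) F) := congrArg Subtype.val h
  have e00 := congrFun (congrFun h' 0) 0
  have e01 := congrFun (congrFun h' 0) 1
  have e10 := congrFun (congrFun h' 1) 0
  simp [Matrix.mul_apply, Fin.sum_univ_two] at e00 e01 e10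
  exact ⟨by linear_combination e00, by linear_combination -e01, by linear_combination e10⟩

theorem sl_ext_commute {x y : SL(2, F)} (h1 : x 0 1 * y 1 0 = x 1 0 * y 0 1)
    (h2 : x 0 1 * (y 0 0 - y 1 1) = y 0 1 * (x 0 0 - x 1 1))
    (h3 : x 1 0 * (y 0 0 - y 1 1) = y 1 0 * (x 0 0 - x 1 1)) : x * y = y * x := by
  apply Subtype.ext
  change (x : Matrix (Fin 2) (Fin 2) F) * (y : Matrix (Fin 2) (Fin 2) F)
    = (y : Matrix (Fin 2) (Fin 2) F) * (x : Matrix (Fin 2) (Fin 2) F)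
  ext i j
  fin_cases i <;> fin_cases j <;> simp [Matrix.mul_apply, Fin.sum_univ_two]
  · linear_combination h1
  · linear_combination -h2
  · linear_combination h3
  · linear_combination -h1

/-- Centralizers of non-scalar elements of `SL₂` are commutative. -/
theorem sl_commute_of_commute {h x y : SL(2, F)} (hh : ¬ SLScal h) (hx : x * h = h * x)
    (hy : y * h = h * y) : x * y = y * x := by
  obtain ⟨a1, a2, a3⟩ := sl_entries hx
  obtain ⟨b1, b2, b3⟩ := sl_entries hy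
  by_cases hq : h 0 1 = 0
  · by_cases hr : h 1 0 = 0
    · have hd : h 0 0 - h 1 1 ≠ 0 := fun e => hh ⟨hq, hr, sub_eq_zero.1 e⟩
      rw [hq] at a2 b2; rw [hr] at a3 b3
      simp only [zero_mul, mul_eq_zero, hd, or_false] at a2 b2 a3 b3
      exact sl_ext_commute (by simp [a2, b2]) (by simp [a2, b2]) (by simp [a3, b3])
    · rw [hq] at a1 b1
      simp only [mul_zero, mul_eq_zero, hr, or_false] at a1 b1
      refine sl_ext_commute (by simp [a1, b1]) (by simp [a1, b1]) ?_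
      apply mul_left_cancel₀ hr
      linear_combination (-(x 1 0)) * b3 + (y 1 0) * a3
  · have g2 : x 0 1 * (y 0 0 - y 1 1) = y 0 1 * (x 0 0 - x 1 1) := by
      apply mul_left_cancel₀ hq
      linear_combination (-(x 0 1)) * b2 + (y 0 1) * a2
    refine sl_ext_commute ?_ g2 ?_ <;> apply mul_left_cancel₀ hq
    · linear_combination (-(x 0 1)) * b1 + (y 0 1) * a1
    · linear_combination (-(y 0 0 - y 1 1)) * a1 + (x 0 0 - x 1 1) * b1 + (h 1 0) * g2

/-- The upper unitriangular element. -/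
def slU : SL(2, F) := ⟨!![1, 1; 0, 1], by rw [Matrix.det_fin_two]; simp⟩

/-- The lower unitriangular element. -/
def slL : SL(2, F) := ⟨!![1, 0; 1, 1], by rw [Matrix.det_fin_two]; simp⟩

theorem conj_slU_apply (g : SL(2, F)) :
    ((slU : SL(2, F)) * g * slU⁻¹ : SL(2, F)) 0 1 = g 0 1 + g 1 1 - g 0 0 - g 1 0 ∧
    ((slU : SL(2, F)) * g * slU⁻¹ : SL(2, F)) 1 0 = g 1 0 ∧
    ((slU : SL(2, F)) * g * slU⁻¹ : SL(2, F)) 0 0 = g 0 0 + g 1 0 ∧ ((slU : SL(2, F)) * g * slU⁻¹ : SL(2, F)) 1 1 = g 1 1 - g 1 0 := by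
  refine ⟨?_, ?_, ?_, ?_⟩
  · change (!![(1 : F), 1; 0, 1] * (g : Matrix (Fin 2) (Fin 2) F) * Matrix.adjugate !![(1 : F), 1; 0, 1]) 0 1 = _
    simp [Matrix.adjugate_fin_two, Matrix.mul_apply, Matrix.vecMul, dotProduct, Fin.sum_univ_two] <;> ring
  · change (!![(1 : F), 1; 0, 1] * (g : Matrix (Fin 2) (Fin 2) F) * Matrix.adjugate !![(1 : F), 1; 0, 1]) 1 0 = _
    simp [Matrix.adjugate_fin_two, Matrix.mul_apply, Matrix.vecMul, dotProduct, Fin.sum_univ_two] <;> ring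
  · change (!![(1 : F), 1; 0, 1] * (g : Matrix (Fin 2) (Fin 2) F) * Matrix.adjugate !![(1 : F), 1; 0, 1]) 0 0 = _
    simp [Matrix.adjugate_fin_two, Matrix.mul_apply, Matrix.vecMul, dotProduct, Fin.sum_univ_two] <;> ring
  · change (!![(1 : F), 1; 0, 1] * (g : Matrix (Fin 2) (Fin 2) F) * Matrix.adjugate !![(1 : F), 1; 0, 1]) 1 1 = _
    simp [Matrix.adjugate_fin_two, Matrix.mul_apply, Matrix.vecMul, dotProduct, Fin.sum_univ_two] <;> ring

theorem conj_slL_apply (g : SL(2, F)) :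
    ((slL : SL(2, F)) * g * slL⁻¹ : SL(2, F)) 1 0 = g 1 0 + g 0 0 - g 1 1 - g 0 1 ∧
    ((slL : SL(2, F)) * g * slL⁻¹ : SL(2, F)) 0 1 = g 0 1 ∧
    ((slL : SL(2, F)) * g * slL⁻¹ : SL(2, F)) 0 0 = g 0 0 - g 0 1 ∧ ((slL : SL(2, F)) * g * slL⁻¹ : SL(2, F)) 1 1 = g 1 1 + g 0 1 := by
  refine ⟨?_, ?_, ?_, ?_⟩
  · change (!![(1 : F), 0; 1, 1] * (g : Matrix (Fin 2) (Fin 2) F) * Matrix.adjugate !![(1 : F), 0; 1, 1]) 1 0 = _
    simp [Matrix.adjugate_fin_two, Matrix.mul_apply, Matrix.vecMul, dotProduct, Fin.sum_univ_two] <;> ring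
  · change (!![(1 : F), 0; 1, 1] * (g : Matrix (Fin 2) (Fin 2) F) * Matrix.adjugate !![(1 : F), 0; 1, 1]) 0 1 = _
    simp [Matrix.adjugate_fin_two, Matrix.mul_apply, Matrix.vecMul, dotProduct, Fin.sum_univ_two] <;> ring
  · change (!![(1 : F), 0; 1, 1] * (g : Matrix (Fin 2) (Fin 2) F) * Matrix.adjugate !![(1 : F), 0; 1, 1]) 0 0 = _
    simp [Matrix.adjugate_fin_two, Matrix.mul_apply, Matrix.vecMul, dotProduct, Fin.sum_univ_two] <;> ring
  · change (!![(1 : F), 0; 1, 1] * (g : Matrix (Fin 2) (Fin 2) F) * Matrix.adjugate !![(1 : F), 0; 1, 1]) 1 1 = _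
    simp [Matrix.adjugate_fin_two, Matrix.mul_apply, Matrix.vecMul, dotProduct, Fin.sum_univ_two] <;> ring

/-- A non-scalar element fails to commute with one of two of its conjugates. -/
theorem exists_conj_not_commute (h2 : (2 : F) ≠ 0) {g : SL(2, F)} (hg : ¬ SLScal g) :
    ∃ w : SL(2, F), ¬ g * (w * g * w⁻¹) = w * g * w⁻¹ * g := by
  by_contra! hall
  obtain ⟨c1, c2, c3, c4⟩ := conj_slU_apply g
  obtain ⟨a1, a2, a3⟩ := sl_entries (hall slU)
  rw [c2, c3, c4] at a3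
  rw [c1, c3, c4] at a2
  have hr : g 1 0 = 0 := by
    have : (2 : F) * (g 1 0 * g 1 0) = 0 := by linear_combination a3
    simpa [h2] using this
  rw [hr] at a2
  have hd : g 0 0 - g 1 1 = 0 := by
    have : (g 0 0 - g 1 1) * (g 0 0 - g 1 1) = 0 := by linear_combination a2
    simpa using this
  obtain ⟨d1, d2, d3, d4⟩ := conj_slL_apply g
  obtain ⟨b1, b2, b3⟩ := sl_entries (hall slL)
  rw [d2, d3, d4] at b2
  have hq : g 0 1 = 0 := by
    have : (2 : F) * (g 0 1 * g 0 1) = 0 := by linear_combination -b2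
    simpa [h2] using this
  exact hg ⟨hq, hr, sub_eq_zero.1 hd⟩

theorem slScal_cases {s : SL(2, F)} (hs : SLScal s) : s = 1 ∨ s = -1 := by
  obtain ⟨h1, h2, h3⟩ := hs
  have hd := Linear.slTwo_det s
  rw [h1, h2, ← h3] at hd
  rcases mul_self_eq_one_iff.1 (show s 0 0 * s 0 0 = 1 by linear_combination hd) with h | h
  · left; exact Linear.slTwo_ext (by simp [h]) (by simp [h1]) (by simp [h2]) (by simp [← h3, h])
  · right; exact Linear.slTwo_ext (by simp [h]) (by simp [h1]) (by simp [h2]) (by simp [← h3, h])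

theorem slScal_one : SLScal (1 : SL(2, F)) := ⟨by simp, by simp, by simp⟩

theorem slScal_neg_one : SLScal (-1 : SL(2, F)) := ⟨by simp, by simp, by simp⟩

/-- Elements anticommuting with an invertible one have trace zero. -/
theorem trace_zero_of_anticommute (h2 : (2 : F) ≠ 0) {g h : SL(2, F)} (e : g * h = -(h * g)) :
    h 0 0 + h 1 1 = 0 := by
  have e1 : g * h * g⁻¹ = -h := by rw [e, neg_mul, mul_inv_cancel_right]
  have e2 := congrArg (fun z : SL(2, F) => Matrix.trace (z : Matrix (Fin 2) (Fin 2) F)) e1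
  change Matrix.trace ((g : Matrix (Fin 2) (Fin 2) F) * (h : Matrix (Fin 2) (Fin 2) F) *
    ((g⁻¹ : SL(2, F)) : Matrix (Fin 2) (Fin 2) F)) =
    Matrix.trace (-(h : Matrix (Fin 2) (Fin 2) F)) at e2
  have e3 : ((g⁻¹ : SL(2, F)) : Matrix (Fin 2) (Fin 2) F) * (g : Matrix (Fin 2) (Fin 2) F) = 1 :=
    congrArg Subtype.val (inv_mul_cancel g)
  rw [Matrix.trace_mul_cycle, e3, one_mul, Matrix.trace_neg, Matrix.trace_fin_two] at e2
  have : (2 : F) * (h 0 0 + h 1 1) = 0 := by linear_combination e2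
  simpa [h2] using this

/-- Two normal subgroups of `SL₂(q)`, `q` odd, with scalar intersection are not both non-scalar. -/
theorem sl_normal_pair (h2 : (2 : F) ≠ 0) (N M : Subgroup SL(2, F)) [hN : N.Normal] [hM : M.Normal]
    (hNM : ∀ x ∈ N, x ∈ M → SLScal x) : (∀ x ∈ N, SLScal x) ∨ ∀ x ∈ M, SLScal x := by
  by_contra! hne
  obtain ⟨⟨g, hgN, hg⟩, h, hhM, hh⟩ := hne
  have hcomm : ∀ x ∈ N, ∀ y ∈ M, x * y = y * x ∨ x * y = -(y * x) := by
    intro x hx y hy
    have e : x * y = x * y * x⁻¹ * y⁻¹ * (y * x) := by group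
    have hs : SLScal (x * y * x⁻¹ * y⁻¹) := by
      refine hNM _ ?_ (M.mul_mem (hM.conj_mem y hy x) (M.inv_mem hy))
      have := N.mul_mem hx (hN.conj_mem _ (N.inv_mem hx) y)
      simpa [mul_assoc] using this
    rcases slScal_cases hs with h' | h' <;> rw [h'] at e
    · exact Or.inl (by rwa [one_mul] at e)
    · exact Or.inr (by rwa [neg_one_mul] at e)
  -- a non-scalar element of `N` commuting with `h`
  obtain ⟨g₀, hg₀N, hg₀, hg₀h⟩ : ∃ g₀ ∈ N, ¬ SLScal g₀ ∧ g₀ * h = h * g₀ := by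
    rcases hcomm g hgN h hhM with e | e
    · exact ⟨g, hgN, hg, e⟩
    obtain ⟨w, hw⟩ := exists_conj_not_commute h2 hg
    rcases hcomm _ (hN.conj_mem g hgN w) h hhM with e' | e'
    · refine ⟨_, hN.conj_mem g hgN w, fun hs => hw ?_, e'⟩
      rcases slScal_cases hs with h' | h' <;> simp [h']
    · refine ⟨g * (w * g * w⁻¹), N.mul_mem hgN (hN.conj_mem g hgN w), fun hs => hw ?_, ?_⟩
      · have hc : ∀ z : SL(2, F), g * (w * g * w⁻¹) * z = z * (g * (w * g * w⁻¹)) := by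
          intro z
          rcases slScal_cases hs with h' | h' <;> simp [h']
        have := hc g
        rw [mul_assoc] at this
        exact (mul_left_cancel this).symm
      · rw [mul_assoc, e', mul_neg, ← mul_assoc, e, neg_mul, neg_neg, mul_assoc]
  obtain ⟨w, hw⟩ := exists_conj_not_commute h2 hg₀
  have th : h 0 0 + h 1 1 = 0 := by
    rcases hcomm _ (hN.conj_mem g₀ hg₀N w) h hhM with e | e
    · exact absurd (sl_commute_of_commute hh hg₀h e) hw
    · exact trace_zero_of_anticommute h2 e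
  obtain ⟨v, hv⟩ := exists_conj_not_commute h2 hh
  have tg : g₀ 0 0 + g₀ 1 1 = 0 := by
    rcases hcomm g₀ hg₀N _ (hM.conj_mem h hhM v) with e | e
    · exact absurd (sl_commute_of_commute hg₀ hg₀h.symm e.symm) hv
    · exact trace_zero_of_anticommute h2 (g := v * h * v⁻¹) (by rw [e, neg_neg])
  -- so `h = ± g₀`
  obtain ⟨a1, a2, a3⟩ := sl_entries hg₀h
  have dg := Linear.slTwo_det g₀
  have dh := Linear.slTwo_det h
  have hg11 : g₀ 1 1 = -g₀ 0 0 := by linear_combination tg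
  have hh11 : h 1 1 = -h 0 0 := by linear_combination th
  rw [hg11] at dg a2 a3; rw [hh11] at dh a2 a3
  have A2 : g₀ 0 1 * h 0 0 = h 0 1 * g₀ 0 0 := by
    apply mul_left_cancel₀ h2; linear_combination a2
  have A3 : g₀ 1 0 * h 0 0 = h 1 0 * g₀ 0 0 := by
    apply mul_left_cancel₀ h2; linear_combination a3
  set t := -(h 0 0 * g₀ 0 0 + h 0 1 * g₀ 1 0) with ht
  have i00 : h 0 0 = t * g₀ 0 0 := by
    rw [ht]; linear_combination -(h 0 0) * dg - g₀ 1 0 * A2
  have i01 : h 0 1 = t * g₀ 0 1 := by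
    rw [ht]; linear_combination -(h 0 1) * dg + g₀ 0 0 * A2
  have i10 : h 1 0 = t * g₀ 1 0 := by
    rw [ht]; linear_combination -(h 1 0) * dg + g₀ 0 0 * A3 - g₀ 1 0 * a1
  have htt : t * t = 1 := by
    rw [i00, i01, i10] at dh; linear_combination dh - (t * t) * dg
  apply hg₀
  rcases mul_self_eq_one_iff.1 htt with h' | h' <;> rw [h'] at i00 i01 i10
  · have : h = g₀ := Linear.slTwo_ext (by simp [i00]) (by simp [i01]) (by simp [i10])
      (by simp [hg11, hh11, i00])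
    exact hNM g₀ hg₀N (this ▸ hhM)
  · have : h = -g₀ := Linear.slTwo_ext (by simp [i00]) (by simp [i01]) (by simp [i10])
      (by simp [hg11, hh11, i00])
    have hm1 : (-1 : SL(2, F)) ∈ M := by
      have h4 : h * h = -1 := Linear.slTwo_ext
        (by simp [SpecialLinearGroup.coe_mul, Matrix.mul_apply, Fin.sum_univ_two]
            linear_combination -dh)
        (by simp [SpecialLinearGroup.coe_mul, Matrix.mul_apply, Fin.sum_univ_two, hh11]; ring)
        (by simp [SpecialLinearGroup.coe_mul, Matrix.mul_apply, Fin.sum_univ_two, hh11]; ring)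
        (by simp [SpecialLinearGroup.coe_mul, Matrix.mul_apply, Fin.sum_univ_two, hh11]
            linear_combination -dh)
      exact h4 ▸ M.mul_mem hhM hhM
    refine hNM g₀ hg₀N ?_
    have h5 := M.mul_mem hm1 hhM
    rwa [this, neg_one_mul, neg_neg] at h5

open Subgroup

variable {G : Type*} [Group G]

/-- Central products: the projections of a second factorization do not overlap. -/
theorem proj_dichotomy {L₁ L₂ A B : Subgroup G} (hF : Odd (Fintype.card F))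
    (e : ↥L₁ ≃* SL(2, F)) {j : G} (hjL : j ∈ L₁) (hjj : j * j = 1) (hj1 : j ≠ 1)
    (hm : L₁ ⊓ L₂ = zpowers j)
    (hn1 : L₁ ⊔ L₂ ≤ normalizer (L₁ : Set G)) (hn2 : L₁ ⊔ L₂ ≤ normalizer (L₂ : Set G))
    (hnA : L₁ ⊔ L₂ ≤ normalizer (A : Set G)) (hnB : L₁ ⊔ L₂ ≤ normalizer (B : Set G))
    (hAB : A ⊔ B = L₁ ⊔ L₂) (hcAB : ∀ a ∈ A, ∀ b ∈ B, a * b = b * a)
    (hjc : ∀ w ∈ L₁ ⊔ L₂, w * j = j * w) :
    A ≤ L₂ ∨ B ≤ L₂ := by
  have h2 : (2 : F) ≠ 0 := Linear.two_ne_zero_of_odd_card hF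
  have hje : e ⟨j, hjL⟩ = -1 := neg_one_of_involution hF e (x := ⟨j, hjL⟩) hj1 hjj
  let N : Subgroup G → Subgroup SL(2, F) := fun D =>
    (((D ⊔ L₂) ⊓ L₁).subgroupOf L₁).map e.toMonoidHom
  have hNn : ∀ D : Subgroup G, L₁ ⊔ L₂ ≤ normalizer (D : Set G) → (N D).Normal := by
    intro D hD
    refine Subgroup.Normal.map ⟨fun x hx w => ?_⟩ _ e.surjective
    rw [mem_subgroupOf] at hx ⊢
    refine ⟨?_, (w * x * w⁻¹).2⟩
    have hw : (w : G) ∈ normalizer ((D ⊔ L₂ : Subgroup G) : Set G) :=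
      normalizer_inf_normalizer_le_normalizer_sup D L₂
        ⟨hD (mem_sup_left w.2), hn2 (mem_sup_left w.2)⟩
    exact (hw _).1 hx.1
  haveI := hNn A hnA
  haveI := hNn B hnB
  -- the overlap is central
  have hz : ∀ x ∈ L₁, x ∈ A ⊔ L₂ → x ∈ B ⊔ L₂ → ∀ w ∈ L₁ ⊔ L₂,
      w * x * w⁻¹ * x⁻¹ ∈ zpowers j := by
    intro x hx1 hxA hxB
    have key : ∀ P Q : Subgroup G, Q ≤ L₁ ⊔ L₂ → P ≤ L₁ ⊔ L₂ →
        L₁ ⊔ L₂ ≤ normalizer (P : Set G) →
        (∀ a ∈ P, ∀ b ∈ Q, a * b = b * a) → x ∈ P ⊔ L₂ → ∀ b ∈ Q,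
        b * x * b⁻¹ * x⁻¹ ∈ zpowers j := by
      intro P Q hQ hP hPn hPQ hxP b hb
      rw [← hm]
      refine ⟨L₁.mul_mem ((hn1 (hQ hb) x).1 hx1) (L₁.inv_mem hx1), ?_⟩
      rw [← SetLike.mem_coe, Subgroup.coe_mul_of_right_le_normalizer_left P L₂
        (le_sup_right.trans hPn)] at hxP
      obtain ⟨a, ha, y, hy, rfl⟩ := hxP
      have hab : b * a = a * b := (hPQ a ha b hb).symm
      have e1 : b * (a * y) * b⁻¹ * (a * y)⁻¹ = a * (b * y * b⁻¹ * y⁻¹) * a⁻¹ := by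
        calc b * (a * y) * b⁻¹ * (a * y)⁻¹ = (b * a) * y * b⁻¹ * y⁻¹ * a⁻¹ := by group
          _ = _ := by rw [hab]; group
      rw [e1]
      exact (hn2 (hP ha) _).1 (L₂.mul_mem ((hn2 (hQ hb) y).1 hy) (L₂.inv_mem hy))
    let C : Subgroup G :=
      { carrier := {w | w ∈ L₁ ⊔ L₂ ∧ w * x * w⁻¹ * x⁻¹ ∈ zpowers j}
        one_mem' := ⟨one_mem _, by simp⟩
        mul_mem' := by
          intro v w hv hw
          refine ⟨mul_mem hv.1 hw.1, ?_⟩
          obtain ⟨k, hk⟩ := hw.2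
          have e1 : v * w * x * (v * w)⁻¹ * x⁻¹
              = (v * (w * x * w⁻¹ * x⁻¹) * v⁻¹) * (v * x * v⁻¹ * x⁻¹) := by group
          rw [e1, ← hk]
          refine mul_mem ?_ hv.2
          dsimp only
          rw [((show Commute v j from hjc v hv.1).zpow_right k).eq, mul_inv_cancel_right]
          exact zpow_mem_zpowers _ _
        inv_mem' := by
          intro v hv
          refine ⟨inv_mem hv.1, ?_⟩
          obtain ⟨k, hk⟩ := hv.2
          have e1 : v⁻¹ * x * v⁻¹⁻¹ * x⁻¹ = v⁻¹ * (v * x * v⁻¹ * x⁻¹)⁻¹ * v := by group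
          rw [e1, ← hk]
          dsimp only
          rw [(((show Commute v j from hjc v hv.1).zpow_right k).inv_right.inv_left).eq,
            inv_mul_cancel_right]
          exact inv_mem (zpow_mem_zpowers _ _) }
    have hA' : A ≤ L₁ ⊔ L₂ := hAB ▸ le_sup_left
    have hB' : B ≤ L₁ ⊔ L₂ := hAB ▸ le_sup_right
    have hC : L₁ ⊔ L₂ ≤ C := by
      rw [← hAB]
      refine sup_le (fun a ha => ⟨hA' ha, ?_⟩) (fun b hb => ⟨hB' hb, ?_⟩)
      · exact key B A hA' hB' hnB (fun a ha b hb => (hcAB b hb a ha).symm) hxB a ha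
      · exact key A B hB' hA' hnA hcAB hxA b hb
    exact fun w hw => (hC hw).2
  have hscal : ∀ x ∈ N A, x ∈ N B → SLScal x := by
    rintro _ ⟨x, hxA, rfl⟩ ⟨y, hyB, hy⟩
    have hyx : y = x := e.injective hy
    rw [hyx] at hyB
    by_contra hns
    obtain ⟨w, hw⟩ := exists_conj_not_commute h2 hns
    apply hw
    have h := hz x x.2 hxA.1 hyB.1 (e.symm w : G) (mem_sup_left (e.symm w).2)
    have hc : ∃ k : ℤ, e.symm w * x * (e.symm w)⁻¹ * x⁻¹ = (⟨j, hjL⟩ : L₁) ^ k := by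
      obtain ⟨k, hk⟩ := h
      exact ⟨k, Subtype.ext (by simpa using hk.symm)⟩
    obtain ⟨k, hk⟩ := hc
    have hk' := congrArg e hk
    simp only [map_mul, map_inv, map_zpow, MulEquiv.apply_symm_apply, hje] at hk'
    have hk2 : w * e x * w⁻¹ = (-1) ^ k * e x := mul_inv_eq_iff_eq_mul.1 hk'
    change e x * (w * e x * w⁻¹) = w * e x * w⁻¹ * e x
    rw [hk2, ← mul_assoc, ((Commute.neg_one_right (e x)).zpow_right k).eq]
  have hconv : ∀ D : Subgroup G, D ≤ L₁ ⊔ L₂ → (∀ x ∈ N D, SLScal x) → D ≤ L₂ := by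
    intro D hD hs a ha
    have haL := hD ha
    rw [← SetLike.mem_coe, Subgroup.coe_mul_of_left_le_normalizer_right L₁ L₂
      (le_sup_left.trans hn2)] at haL
    obtain ⟨x, hx, y, hy, rfl⟩ := haL
    dsimp only at ha ⊢
    have hxD : x ∈ D ⊔ L₂ := by
      have := mul_mem (mem_sup_left ha) (inv_mem (mem_sup_right hy) : y⁻¹ ∈ D ⊔ L₂)
      rwa [mul_inv_cancel_right] at this
    have h1 := hs _ ⟨⟨x, hx⟩, ⟨hxD, hx⟩, rfl⟩
    refine mul_mem ?_ hy
    rcases slScal_cases h1 with h | h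
    · have : x = 1 := congrArg Subtype.val (e.injective (h.trans e.map_one.symm))
      rw [this]; exact one_mem _
    · have : x = j := congrArg Subtype.val (e.injective (h.trans hje.symm))
      rw [this]; exact ((hm ▸ mem_zpowers j : j ∈ L₁ ⊓ L₂)).2
  rcases sl_normal_pair h2 (N A) (N B) hscal with h | h
  · exact Or.inl (hconv A (hAB ▸ le_sup_left) h)
  · exact Or.inr (hconv B (hAB ▸ le_sup_right) h)

theorem card_SL_two_inj {F₁ : Type*} [Field F₁] [Fintype F₁] {F₂ : Type*} [Field F₂] [Fintype F₂]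
    (h : Nat.card SL(2, F₁) = Nat.card SL(2, F₂)) : Fintype.card F₁ = Fintype.card F₂ := by
  rw [Linear.card_SL_two, Linear.card_SL_two] at h
  have hmono : ∀ a b : ℕ, 1 ≤ a → a < b →
      a * (a - 1) * (a + 1) < b * (b - 1) * (b + 1) := by
    intro a b ha hab
    apply Nat.mul_lt_mul_of_lt_of_le _ (by omega) (by omega)
    exact Nat.mul_lt_mul_of_lt_of_le hab (by omega) (by omega)
  rcases lt_trichotomy (Fintype.card F₁) (Fintype.card F₂) with hlt | heq | hgt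
  · exact absurd h (hmono _ _ Fintype.card_pos hlt).ne
  · exact heq
  · exact absurd h (hmono _ _ Fintype.card_pos hgt).ne'

theorem not_card_le_two {P : Subgroup G} (e : ↥P ≃* SL(2, F)) (hF : Odd (Fintype.card F)) :
    ¬ Nat.card P ≤ 2 := by
  intro hle2
  rw [Nat.card_congr e.toEquiv, Linear.card_SL_two] at hle2
  have h1 := Fintype.one_lt_card (α := F)
  have h3 : 3 ≤ Fintype.card F := by rw [Nat.odd_iff] at hF; omega
  have : 3 * 2 * 4 ≤ Fintype.card F * (Fintype.card F - 1) * (Fintype.card F + 1) :=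
    Nat.mul_le_mul (Nat.mul_le_mul h3 (by omega)) (by omega)
  omega

/-- The outer elements of a central product of two `SL₂`. -/
theorem sl_pair_outer [Finite G] {F₁ : Type*} [Field F₁] [Fintype F₁] {F₂ : Type*} [Field F₂]
    [Fintype F₂] (hF₁ : Odd (Fintype.card F₁)) (hF₂ : Odd (Fintype.card F₂)) (L₁ L₂ : Subgroup G)
    (e₁ : ↥L₁ ≃* SL(2, F₁)) (e₂ : ↥L₂ ≃* SL(2, F₂))
    (hc : ∀ x ∈ L₁, ∀ y ∈ L₂, x * y = y * x) (j : G) (hj : orderOf j = 2)
    (hm : L₁ ⊓ L₂ = zpowers j) (hle : L₁ ⊔ L₂ ≤ centralizer ({j} : Set G))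
    (hi : (L₁ ⊔ L₂).relIndex (centralizer ({j} : Set G)) = 2) (n : G)
    (hn : n ∈ centralizer ({j} : Set G)) (hn' : n ∉ L₁ ⊔ L₂) :
    (L₁.map (MulAut.conj n).toMonoidHom = L₁ ∧ L₂.map (MulAut.conj n).toMonoidHom = L₂) ∨
      (L₁.map (MulAut.conj n).toMonoidHom = L₂ ∧ Fintype.card F₁ = Fintype.card F₂ ∧
        ∃ n' ∈ centralizer ({j} : Set G), n' ∉ L₁ ⊔ L₂ ∧
          L₁.map (MulAut.conj n').toMonoidHom = L₂ ∧ n' ^ 2 ∈ zpowers j) := by
  have hj1 : j ≠ 1 := fun h => by rw [h, orderOf_one] at hj; omega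
  have hjj : j * j = 1 := by rw [← pow_two, ← hj]; exact pow_orderOf_eq_one j
  have hjm : j ∈ L₁ ⊓ L₂ := hm ▸ mem_zpowers j
  set L := L₁ ⊔ L₂ with hL
  set C := centralizer ({j} : Set G) with hC
  have hjc : ∀ w ∈ L, w * j = j * w := fun w hw => mem_centralizer_singleton_iff.1 (hle hw)
  have h2 : (L.subgroupOf C).index = 2 := hi
  haveI := Subgroup.normal_of_index_eq_two h2
  have hLn : ∀ g ∈ C, ∀ w ∈ L, g * w * g⁻¹ ∈ L := fun g hg w hw => by
    have := Subgroup.Normal.conj_mem (inferInstance : (L.subgroupOf C).Normal)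
      ⟨w, hle hw⟩ hw ⟨g, hg⟩
    exact this
  have hcent : ∀ {P Q : Subgroup G}, (∀ x ∈ P, ∀ y ∈ Q, x * y = y * x) →
      P ⊔ Q ≤ normalizer (P : Set G) := by
    intro P Q hPQ
    refine sup_le le_normalizer fun y hy => ?_
    rw [mem_normalizer_iff]
    intro x
    constructor
    · intro hx
      rwa [← hPQ x hx y hy, mul_inv_cancel_right]
    · intro hx
      have h := hPQ _ hx y hy
      have e : y * x * y⁻¹ = x := by
        calc y * x * y⁻¹ = y⁻¹ * (y * (y * x * y⁻¹)) := by group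
          _ = y⁻¹ * ((y * x * y⁻¹) * y) := by rw [h]
          _ = x := by group
      rwa [e] at hx
  have hn1 : L ≤ normalizer (L₁ : Set G) := hcent hc
  have hn2 : L ≤ normalizer (L₂ : Set G) := by
    have := hcent (P := L₂) (Q := L₁) fun x hx y hy => (hc y hy x hx).symm
    rwa [sup_comm] at this
  set φ := (MulAut.conj n).toMonoidHom with hφ
  set A := L₁.map φ with hA
  set B := L₂.map φ with hB
  have hAB : A ⊔ B = L := by
    rw [hA, hB, ← Subgroup.map_sup]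
    apply le_antisymm
    · rintro _ ⟨w, hw, rfl⟩
      exact hLn n hn w hw
    · intro w hw
      refine ⟨n⁻¹ * w * n⁻¹⁻¹, hLn _ (inv_mem hn) w hw, ?_⟩
      simp [φ, mul_assoc]
  have hcAB : ∀ a ∈ A, ∀ b ∈ B, a * b = b * a := by
    rintro _ ⟨x, hx, rfl⟩ _ ⟨y, hy, rfl⟩
    rw [← map_mul, ← map_mul, hc x hx y hy]
  have hnA : L ≤ normalizer (A : Set G) := by
    rw [← hAB]; exact hcent hcAB
  have hnB : L ≤ normalizer (B : Set G) := by
    rw [← hAB, sup_comm]; exact hcent fun b hb a ha => (hcAB a ha b hb).symm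
  have hjA : j ∈ A ∧ j ∈ B := by
    have hfix : φ j = j :=
      mul_inv_eq_iff_eq_mul.2 (mem_centralizer_singleton_iff.1 hn)
    exact ⟨⟨j, hjm.1, hfix⟩, ⟨j, hjm.2, hfix⟩⟩
  have hcardA : Nat.card A = Nat.card L₁ :=
    (Nat.card_congr (L₁.equivMapOfInjective φ (MulAut.conj n).injective).toEquiv).symm
  have hcardB : Nat.card B = Nat.card L₂ :=
    (Nat.card_congr (L₂.equivMapOfInjective φ (MulAut.conj n).injective).toEquiv).symm
  have d1 := proj_dichotomy hF₁ e₁ hjm.1 hjj hj1 hm hn1 hn2 hnA hnB hAB hcAB hjc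
  have d2 := proj_dichotomy (A := A) (B := B) (L₁ := L₂) (L₂ := L₁) hF₂ e₂ hjm.2 hjj hj1
    (by rw [inf_comm, hm]) (by rw [sup_comm]; exact hn2) (by rw [sup_comm]; exact hn1)
    (by rw [sup_comm]; exact hnA) (by rw [sup_comm]; exact hnB) (by rw [hAB, hL, sup_comm]) hcAB
    (by rw [sup_comm]; exact hjc)
  have hsmall : ∀ P : Subgroup G, P ≤ L₁ → P ≤ L₂ → Nat.card P ≤ 2 := by
    intro P h1 h2
    calc Nat.card P ≤ Nat.card (zpowers j) := card_le_of_le (hm ▸ le_inf h1 h2)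
      _ = 2 := by rw [Nat.card_zpowers, hj]
  have hfull : ∀ {P Q R S : Subgroup G}, P ≤ R → Q ≤ S → P ⊔ Q = L → R ≤ L →
      R ⊓ S ≤ P → (P ⊔ Q ≤ normalizer (P : Set G)) → P = R := by
    intro P Q R S hPR hQS hPQ hRL hRS hPn
    refine le_antisymm hPR fun r hr => ?_
    have hrL : r ∈ P ⊔ Q := hPQ ▸ hRL hr
    rw [← SetLike.mem_coe, Subgroup.coe_mul_of_right_le_normalizer_left P Q
      (le_sup_right.trans hPn)] at hrL
    obtain ⟨p, hp, q, hq, rfl⟩ := hrL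
    dsimp only at hr ⊢
    refine mul_mem hp (hRS ⟨?_, hQS hq⟩)
    have := R.mul_mem (R.inv_mem (hPR hp)) hr
    rwa [inv_mul_cancel_left] at this
  have hI12 : L₁ ⊓ L₂ ≤ A ⊓ B := by rw [hm, zpowers_le]; exact hjA
  rcases d1 with hA2 | hB2
  · -- `n` interchanges the factors
    have hB1 : B ≤ L₁ := d2.resolve_left fun hA1 => not_card_le_two e₁ hF₁ (hcardA ▸ hsmall A hA1 hA2)
    have hAeq : A = L₂ := hfull hA2 hB1 hAB le_sup_right
      (by rw [inf_comm]; exact hI12.trans inf_le_left) (by rw [hAB]; exact hnA)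
    have hBeq : B = L₁ := hfull hB1 hA2 (by rw [sup_comm, hAB]) le_sup_left
      (hI12.trans inf_le_right) (by rw [sup_comm, hAB]; exact hnB)
    refine Or.inr ⟨hAeq, card_SL_two_inj ?_, ?_⟩
    · rw [← Nat.card_congr e₁.toEquiv, ← Nat.card_congr e₂.toEquiv, ← hcardA, hAeq]
    · have hn2L : n * n ∈ L := by
        have := (Subgroup.mul_mem_iff_of_index_two h2 (a := ⟨n, hn⟩) (b := ⟨n, hn⟩)).2 Iff.rfl
        exact this
      rw [← SetLike.mem_coe, hL, Subgroup.coe_mul_of_left_le_normalizer_right L₁ L₂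
        (le_sup_left.trans hn2)] at hn2L
      obtain ⟨x, hx, y, hy, hxy⟩ := hn2L
      dsimp only at hxy
      have hx2 : n * x * n⁻¹ ∈ L₂ := hAeq ▸ ⟨x, hx, rfl⟩
      have hy1 : n * y * n⁻¹ ∈ L₁ := hBeq ▸ ⟨y, hy, rfl⟩
      have hfix : (n * x * n⁻¹) * (n * y * n⁻¹) = x * y := by
        calc (n * x * n⁻¹) * (n * y * n⁻¹) = n * (x * y) * n⁻¹ := by group
          _ = n * (n * n) * n⁻¹ := by rw [hxy]
          _ = x * y := by rw [hxy]; group
      have hx1 : x⁻¹ ∈ L₁ := inv_mem hx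
      have hu : n⁻¹ * x⁻¹ * n = y⁻¹ * (n * x⁻¹ * n⁻¹) * y := by
        have h1 : n * x⁻¹ * n⁻¹ ∈ L₂ := by
          have := inv_mem hx2; simpa [mul_assoc] using this
        calc n⁻¹ * x⁻¹ * n = (n * n)⁻¹ * (n * x⁻¹ * n⁻¹) * (n * n) := by group
          _ = (x * y)⁻¹ * (n * x⁻¹ * n⁻¹) * (x * y) := by rw [hxy]
          _ = y⁻¹ * (x⁻¹ * (n * x⁻¹ * n⁻¹)) * x * y := by group
          _ = y⁻¹ * ((n * x⁻¹ * n⁻¹) * x⁻¹) * x * y := by rw [hc _ hx1 _ h1]
          _ = _ := by group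
      refine ⟨n * x⁻¹, mul_mem hn (inv_mem (hle (mem_sup_left hx))), ?_, ?_, ?_⟩
      · intro h
        have := mul_mem h (mem_sup_left hx : x ∈ L)
        rw [inv_mul_cancel_right] at this
        exact hn' this
      · rw [← hAeq, hA]
        apply le_antisymm
        · rintro _ ⟨w, hw, rfl⟩
          exact ⟨x⁻¹ * w * x, mul_mem (mul_mem hx1 hw) hx, by simp [φ, mul_assoc]⟩
        · rintro _ ⟨w, hw, rfl⟩
          exact ⟨x * w * x⁻¹, mul_mem (mul_mem hx hw) hx1, by simp [φ, mul_assoc]⟩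
      · rw [← hm, pow_two]
        have hu2 : n⁻¹ * x⁻¹ * n ∈ L₂ := by
          rw [hu]
          exact mul_mem (mul_mem (inv_mem hy) (by simpa [mul_assoc] using inv_mem hx2)) hy
        have e : n * x⁻¹ * (n * x⁻¹) = n * x⁻¹ * n⁻¹ * y := by
          calc n * x⁻¹ * (n * x⁻¹) = (n * n) * ((n⁻¹ * x⁻¹ * n) * x⁻¹) := by group
            _ = (n * n) * (x⁻¹ * (n⁻¹ * x⁻¹ * n)) := by rw [← hc _ hx1 _ hu2]
            _ = (n * n) * (x⁻¹ * (y⁻¹ * (n * x⁻¹ * n⁻¹) * y)) := by rw [hu]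
            _ = (x * y) * (x⁻¹ * y⁻¹) * (n * x⁻¹ * n⁻¹) * y := by rw [← hxy]; group
            _ = (x * y) * (y⁻¹ * x⁻¹) * (n * x⁻¹ * n⁻¹) * y := by
                rw [hc _ hx1 _ (inv_mem hy)]
            _ = n * x⁻¹ * n⁻¹ * y := by group
        rw [e]
        refine ⟨?_, mul_mem (by simpa [mul_assoc] using inv_mem hx2) hy⟩
        have e2 : n * x⁻¹ * n⁻¹ * y = (n * y * n⁻¹) * x⁻¹ := by
          have h3 : n * y * n⁻¹ = (n * x * n⁻¹)⁻¹ * (x * y) := by
            rw [← hfix, inv_mul_cancel_left]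
          have h4 : n * x⁻¹ * n⁻¹ ∈ L₂ := by simpa [mul_assoc] using inv_mem hx2
          calc n * x⁻¹ * n⁻¹ * y = (n * x⁻¹ * n⁻¹) * (y * x) * x⁻¹ := by group
            _ = (n * x⁻¹ * n⁻¹) * (x * y) * x⁻¹ := by rw [hc x hx y hy]
            _ = _ := by rw [h3]; group
        rw [e2]
        exact mul_mem hy1 hx1
  · have hA1 : A ≤ L₁ := d2.resolve_right fun hB1 => not_card_le_two e₂ hF₂ (hcardB ▸ hsmall B hB1 hB2)
    refine Or.inl ⟨hfull hA1 hB2 hAB le_sup_left (hI12.trans inf_le_left) (by rw [hAB]; exact hnA),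
      hfull hB2 hA1 (by rw [sup_comm, hAB]) le_sup_right
        (by rw [inf_comm]; exact hI12.trans inf_le_right) (by rw [sup_comm, hAB]; exact hnB)⟩

end Cfsg.Agent.CharTwo
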