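import Cfsg.Agent.CharTwo.TwoTimesSymmetricFourModel
import Mathlib.GroupTheory.Subgroup.Centralizer
import Mathlib.GroupTheory.Sylow
import Mathlib.GroupTheory.Solvable
import Mathlib.GroupTheory.FixedPointFree

/-!
# An involution centraliser `Z₂ × S₄` with small second involution centraliser
-/

set_option autoImplicit false

namespace Cfsg.Agent.CharTwo.TwoSymFour

open Subgroup
open scoped commutatorElement

/-- `A = Z₂ × V` in the model. -/
abbrev A0 : Subgroup M0 := centralizer {dd, ee}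

/-- The Sylow 2-subgroup of the model. -/
abbrev P0 : Subgroup M0 := centralizer {dd}

theorem mem_A0 {x : M0} : x ∈ A0 ↔ x * dd = dd * x ∧ x * ee = ee * x := by
  simp [A0, Subgroup.mem_centralizer_iff, eq_comm]

theorem mem_P0 {x : M0} : x ∈ P0 ↔ x * dd = dd * x := Subgroup.mem_centralizer_singleton_iff

theorem card_P0 : Nat.card P0 = 16 := by
  rw [← card_centralizer_dd, ← Fintype.card_subtype, ← Nat.card_eq_fintype_card]
  exact Nat.card_congr (Equiv.subtypeEquivRight fun x => mem_P0)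

theorem card_A0 : Nat.card A0 = 8 := by
  rw [← card_centralizer_dd_ee, ← Fintype.card_subtype, ← Nat.card_eq_fintype_card]
  exact Nat.card_congr (Equiv.subtypeEquivRight fun x => mem_A0)

theorem card_M0 : Nat.card M0 = 48 := by
  rw [Nat.card_prod, Nat.card_congr Multiplicative.toAdd, Nat.card_zmod, Nat.card_eq_fintype_card (α := Equiv.Perm (Fin 4)), Fintype.card_perm, Fintype.card_fin]
  rfl

theorem A0_normal : A0.Normal :=
  ⟨fun x hx g => mem_A0.2 (conj_dd_ee x g (mem_A0.1 hx).1 (mem_A0.1 hx).2)⟩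

theorem isPGroup_P0 : IsPGroup 2 P0 := IsPGroup.of_card (n := 4) card_P0

/-- Klein's four-group inside `Perm (Fin 4)`. -/
def kleinV : Subgroup (Equiv.Perm (Fin 4)) where
  carrier := {g | g * g = 1 ∧ Equiv.Perm.sign g = 1}
  one_mem' := by simp
  mul_mem' {a b} := by revert a b; decide +kernel
  inv_mem' {a} := by revert a; decide +kernel

theorem solvable_perm_four' : Group.IsSolvable (Equiv.Perm (Fin 4)) := by
  refine ⟨3, ?_⟩
  have h1 : derivedSeries (Equiv.Perm (Fin 4)) 1 ≤ (Equiv.Perm.sign (α := Fin 4)).ker := by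
    rw [derivedSeries_succ, derivedSeries_zero, Subgroup.commutator_le]
    intro a _ b _
    rw [MonoidHom.mem_ker, map_commutatorElement]
    exact commutatorElement_eq_one_iff_commute.2 (Commute.all _ _)
  have hV : ∀ a b : Equiv.Perm (Fin 4), Equiv.Perm.sign a = 1 → Equiv.Perm.sign b = 1 →
      (a * b * a⁻¹ * b⁻¹) * (a * b * a⁻¹ * b⁻¹) = 1 := by decide +kernel
  have hC : ∀ a b : Equiv.Perm (Fin 4), a * a = 1 → Equiv.Perm.sign a = 1 → b * b = 1 →
      Equiv.Perm.sign b = 1 → a * b = b * a := by decide +kernel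
  have h2 : derivedSeries (Equiv.Perm (Fin 4)) 2 ≤ kleinV := by
    rw [derivedSeries_succ, Subgroup.commutator_le]
    intro a ha b hb
    refine ⟨?_, ?_⟩
    · rw [commutatorElement_def]; exact hV a b (h1 ha) (h1 hb)
    · rw [map_commutatorElement]
      exact commutatorElement_eq_one_iff_commute.2 (Commute.all _ _)
  rw [derivedSeries_succ, Subgroup.commutator_eq_bot_iff_le_centralizer]
  intro a ha b hb
  exact hC b a (h2 hb).1 (h2 hb).2 (h2 ha).1 (h2 ha).2

theorem isSolvable_M0 : Group.IsSolvable M0 := by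
  haveI := solvable_perm_four'
  haveI : Group.IsSolvable (Multiplicative (ZMod 2)) := isSolvable_of_comm fun a b => mul_comm a b
  infer_instance

/-- The hypotheses: `j` identifies the model with `C(j tt)` and `C(j dd)` lies in the image of
the Sylow 2-subgroup. -/
structure Data (G : Type*) [Group G] where
  j : M0 →* G
  inj : Function.Injective j
  cent : centralizer ({j tt} : Set G) = j.range
  cdd : centralizer ({j dd} : Set G) = P0.map j

variable {G : Type*} [Group G] [Finite G] (h : Data G)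
include h

theorem Data.cdd_conj {v : M0} (hv : ∃ x, x * dd * x⁻¹ = v) :
    IsPGroup 2 (centralizer ({h.j v} : Set G)) := by
  obtain ⟨x, rfl⟩ := hv
  have hp : IsPGroup 2 (centralizer ({h.j dd} : Set G)) := by
    rw [h.cdd]; exact isPGroup_P0.map _
  have he : centralizer ({h.j (x * dd * x⁻¹)} : Set G) ≤
      (centralizer ({h.j dd} : Set G)).map (MulAut.conj (h.j x)).toMonoidHom := by
    intro g hg
    refine ⟨(h.j x)⁻¹ * g * h.j x, Subgroup.mem_centralizer_singleton_iff.2 ?_, by simp [mul_assoc]⟩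
    have := congrArg (fun y => (h.j x)⁻¹ * y * h.j x) (Subgroup.mem_centralizer_singleton_iff.1 hg)
    simpa [map_mul, mul_assoc] using this
  exact (hp.map _).to_le he

/-- A subgroup of odd order normalised by the four-group is trivial. -/
theorem Data.odd_eq_bot {N : Subgroup G} (hodd : ¬ 2 ∣ Nat.card N)
    (hd : ∀ y ∈ N, h.j dd * y * (h.j dd)⁻¹ ∈ N) (he : ∀ y ∈ N, h.j ee * y * (h.j ee)⁻¹ ∈ N) :
    N = ⊥ := by
  have key : ∀ v : M0, (∃ x, x * dd * x⁻¹ = v) → v * v = 1 →
      (∀ y ∈ N, h.j v * y * (h.j v)⁻¹ ∈ N) → ∀ y ∈ N, h.j v * y * (h.j v)⁻¹ = y⁻¹ := by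
    intro v hv hv2 hN y hy
    let φ : N →* N :=
      { toFun := fun y => ⟨h.j v * y * (h.j v)⁻¹, hN y y.2⟩
        map_one' := Subtype.ext (by simp)
        map_mul' := fun a b => Subtype.ext (by simp [mul_assoc]) }
    have hfp : MonoidHom.FixedPointFree φ := by
      intro a ha
      have ha' : h.j v * (a : G) * (h.j v)⁻¹ = a := congrArg Subtype.val ha
      obtain ⟨k, hk⟩ := h.cdd_conj hv ⟨a, Subgroup.mem_centralizer_singleton_iff.2
        (mul_inv_eq_iff_eq_mul.1 ha').symm⟩
      have hk' : (a : G) ^ 2 ^ k = 1 := congrArg Subtype.val hk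
      exact Subtype.ext (orderOf_eq_one_iff.1 (Nat.eq_one_of_dvd_coprimes
        (Nat.Coprime.pow_left k ((Nat.Prime.coprime_iff_not_dvd Nat.prime_two).2 hodd))
        (orderOf_dvd_of_pow_eq_one hk') (orderOf_dvd_natCard N a.2)))
    have hv1 : h.j v * h.j v = 1 := by rw [← map_mul, hv2, map_one]
    have hinv : Function.Involutive φ := fun a => Subtype.ext (by
      show h.j v * (h.j v * (a : G) * (h.j v)⁻¹) * (h.j v)⁻¹ = a
      calc h.j v * (h.j v * (a : G) * (h.j v)⁻¹) * (h.j v)⁻¹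
          = (h.j v * h.j v) * a * (h.j v * h.j v)⁻¹ := by simp [mul_assoc]
        _ = a := by rw [hv1]; simp)
    exact congrArg Subtype.val (congrFun (hfp.coe_eq_inv_of_involutive hinv) ⟨y, hy⟩)
  obtain ⟨-, -, hd2, -, he2, -, -, hde, -⟩ := basic
  have hde2 : dd * ee * (dd * ee) = 1 := by
    rw [mul_assoc, ← mul_assoc ee dd ee, ← hde, mul_assoc dd ee ee, he2, mul_one, hd2]
  have k1 := key dd ⟨1, by simp⟩ hd2 hd
  have k2 := key ee dd_conj_ee he2 he
  have hde' : ∀ y, h.j (dd * ee) * y * (h.j (dd * ee))⁻¹ =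
      h.j dd * (h.j ee * y * (h.j ee)⁻¹) * (h.j dd)⁻¹ := fun y => by simp [map_mul, mul_assoc]
  have k3 := key (dd * ee) dd_conj_mul hde2 fun y hy => by rw [hde']; exact hd _ (he y hy)
  rw [eq_bot_iff]
  intro y hy
  have e1 : y⁻¹ = y := by
    calc y⁻¹ = h.j (dd * ee) * y * (h.j (dd * ee))⁻¹ := (k3 y hy).symm
      _ = h.j dd * y⁻¹ * (h.j dd)⁻¹ := by rw [hde', k2 y hy]
      _ = y := by rw [k1 _ (inv_mem hy), inv_inv]
  have h2 : y ^ 2 = 1 := by rw [pow_two]; exact inv_eq_iff_mul_eq_one.1 e1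
  exact orderOf_eq_one_iff.1 (Nat.eq_one_of_dvd_coprimes
    ((Nat.Prime.coprime_iff_not_dvd Nat.prime_two).2 hodd) (orderOf_dvd_of_pow_eq_one h2)
    (orderOf_dvd_natCard N hy))

theorem Data.odd_normal_eq_bot {N : Subgroup G} (hN : N.Normal) (hodd : ¬ 2 ∣ Nat.card N) :
    N = ⊥ :=
  h.odd_eq_bot hodd (fun y hy => hN.conj_mem y hy _) fun y hy => hN.conj_mem y hy _

theorem Data.card_map (K : Subgroup M0) : Nat.card (K.map h.j) = Nat.card K :=
  (Nat.card_congr (K.equivMapOfInjective h.j h.inj).toEquiv).symm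

theorem Data.card_range : Nat.card h.j.range = 48 :=
  (Nat.card_congr (MonoidHom.ofInjective h.inj).toEquiv).symm.trans card_M0

theorem Data.P_le_range : P0.map h.j ≤ h.j.range := Subgroup.map_le_range _ _

/-- The normaliser of `A` is the centraliser of the involution. -/
theorem Data.normalizer_A : normalizer ((A0.map h.j : Subgroup G) : Set G) = h.j.range := by
  classical
  set A := A0.map h.j with hA
  set N := normalizer (A : Set G) with hN
  have hCN : h.j.range ≤ N := by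
    rintro _ ⟨g, rfl⟩
    rw [hN, Subgroup.mem_normalizer_iff]
    intro y
    constructor
    · rintro ⟨x, hx, rfl⟩
      exact ⟨g * x * g⁻¹, A0_normal.conj_mem x hx g, by simp⟩
    · rintro ⟨x, hx, hxy⟩
      refine ⟨g⁻¹ * x * g, by simpa using A0_normal.conj_mem x hx g⁻¹, ?_⟩
      rw [map_mul, map_mul, hxy, map_inv]; simp [mul_assoc]
  have hPN : P0.map h.j ≤ N := h.P_le_range.trans hCN
  have hcN : Nat.card N = h.j.range.relIndex N * 48 := by
    rw [← h.card_range, ← Subgroup.relIndex_bot_left, ← Subgroup.relIndex_bot_left, mul_comm,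
      Subgroup.relIndex_mul_relIndex _ _ _ bot_le hCN]
  have hcP : Nat.card N = (P0.map h.j).relIndex N * 16 := by
    rw [← card_P0, ← h.card_map P0, ← Subgroup.relIndex_bot_left, ← Subgroup.relIndex_bot_left,
      mul_comm, Subgroup.relIndex_mul_relIndex _ _ _ bot_le hPN]
  obtain ⟨htt, htt1, hd2, hdd1, -, -, hne, hde, -⟩ := basic
  have htA : h.j tt ∈ A := ⟨tt, mem_A0.2 ⟨(tt_central dd).symm, (tt_central ee).symm⟩, rfl⟩
  have hdA : h.j dd ∈ A := ⟨dd, mem_A0.2 ⟨rfl, hde⟩, rfl⟩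
  have hjne : ∀ a : M0, a ≠ 1 → h.j a ≠ 1 := fun a ha e => ha (h.inj (by rw [e, map_one]))
  -- the two classes inject into `A \ {1}`
  let f : (N ⧸ h.j.range.subgroupOf N) ⊕ (N ⧸ (P0.map h.j).subgroupOf N) → {a : A // a ≠ 1} :=
    Sum.elim
      (fun q => ⟨⟨q.out.1 * h.j tt * (q.out.1)⁻¹, (Subgroup.mem_normalizer_iff.1 q.out.2 _).1 htA⟩,
        fun e => hjne tt htt1 (conj_eq_one_iff.1 (congrArg Subtype.val e))⟩)
      (fun q => ⟨⟨q.out.1 * h.j dd * (q.out.1)⁻¹, (Subgroup.mem_normalizer_iff.1 q.out.2 _).1 hdA⟩,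
        fun e => hjne dd hdd1 (conj_eq_one_iff.1 (congrArg Subtype.val e))⟩)
  have hconj : ∀ (a b x y : G), a * x * a⁻¹ = b * y * b⁻¹ → (b⁻¹ * a) * x * (b⁻¹ * a)⁻¹ = y :=
    fun a b x y e => by
      calc b⁻¹ * a * x * (b⁻¹ * a)⁻¹ = b⁻¹ * (a * x * a⁻¹) * b := by simp [mul_assoc]
        _ = y := by rw [e]; simp [mul_assoc]
  have hcomm : ∀ g x : G, g * x * g⁻¹ = x → g ∈ centralizer ({x} : Set G) := fun g x e =>
    Subgroup.mem_centralizer_singleton_iff.2 (mul_inv_eq_iff_eq_mul.1 e)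
  have hmix : ∀ g : G, g * h.j tt * g⁻¹ ≠ h.j dd := by
    intro g e
    have h1 : Nat.card (centralizer ({h.j tt} : Set G)) ≤ Nat.card (centralizer ({h.j dd} : Set G)) := by
      refine Nat.card_le_card_of_injective (fun x => ⟨g * x.1 * g⁻¹,
        Subgroup.mem_centralizer_singleton_iff.2 ?_⟩) fun x y e' =>
          Subtype.ext (mul_left_cancel (mul_right_cancel (congrArg Subtype.val e' :)))
      rw [← e]
      have := congrArg (fun y => g * y * g⁻¹) (Subgroup.mem_centralizer_singleton_iff.1 x.2)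
      simpa [mul_assoc] using this
    rw [h.cent, h.cdd, h.card_range, h.card_map, card_P0] at h1
    omega
  have hinj : Function.Injective f := by
    rintro (q | q) (r | r) e <;> have e' := congrArg (fun a => ((a : A) : G)) (congrArg Subtype.val e)
    · have := hcomm _ _ (hconj _ _ _ _ e')
      rw [h.cent] at this
      exact congrArg Sum.inl (by
        rw [← QuotientGroup.out_eq' q, ← QuotientGroup.out_eq' r]; exact ((QuotientGroup.eq (a := r.out) (b := q.out)).2 (Subgroup.mem_subgroupOf.2 this)).symm)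
    · exact absurd (hconj _ _ _ _ e') (hmix _)
    · exact absurd (hconj _ _ _ _ e'.symm) (hmix _)
    · have := hcomm _ _ (hconj _ _ _ _ e')
      rw [h.cdd] at this
      exact congrArg Sum.inr (by
        rw [← QuotientGroup.out_eq' q, ← QuotientGroup.out_eq' r]; exact ((QuotientGroup.eq (a := r.out) (b := q.out)).2 (Subgroup.mem_subgroupOf.2 this)).symm)
  have h7 : Nat.card {a : A // a ≠ 1} = 7 := by
    haveI := Fintype.ofFinite A
    rw [Nat.card_eq_fintype_card, Fintype.card_subtype_compl, Fintype.card_subtype_eq,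
      ← Nat.card_eq_fintype_card, h.card_map, card_A0]
  have hle := Nat.card_le_card_of_injective f hinj
  rw [h7, Nat.card_sum] at hle
  have hr : h.j.range.relIndex N = 1 := by
    have e1 : Nat.card (N ⧸ h.j.range.subgroupOf N) = h.j.range.relIndex N := rfl
    have e2 : Nat.card (N ⧸ (P0.map h.j).subgroupOf N) = (P0.map h.j).relIndex N := rfl
    have := Nat.card_pos (α := N)
    omega
  exact le_antisymm (Subgroup.relIndex_eq_one.1 hr) hCN

/-- A Sylow 2-subgroup. -/
theorem Data.exists_sylow (T : Sylow 2 G) (hT : ∀ s ∈ (T : Subgroup G), s * h.j tt = h.j tt * s) :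
    ∃ P : Sylow 2 G, (P : Subgroup G) = P0.map h.j := by
  haveI : Fact (Nat.Prime 2) := ⟨Nat.prime_two⟩
  have hle : (T : Subgroup G) ≤ h.j.range := by
    rw [← h.cent]; exact fun s hs => Subgroup.mem_centralizer_singleton_iff.2 (hT s hs)
  obtain ⟨n, hn⟩ := IsPGroup.iff_card.1 T.isPGroup'
  have h1 : Nat.card (T : Subgroup G) ∣ 48 := h.card_range ▸ Subgroup.card_dvd_of_le hle
  have hp : IsPGroup 2 (P0.map h.j) := isPGroup_P0.map _
  obtain ⟨Q, hQ⟩ := hp.exists_le_sylow
  have hQc : Nat.card Q = Nat.card T := by rw [Q.card_eq_multiplicity, T.card_eq_multiplicity]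
  refine ⟨Q, (Subgroup.eq_of_le_of_card_ge hQ ?_).symm⟩
  rw [h.card_map, card_P0, hQc, hn]
  rw [hn] at h1
  have hn4 : n ≤ 4 := by
    by_contra hc
    have h2 : 2 ^ 5 ∣ 48 := (pow_dvd_pow 2 (by omega)).trans h1
    omega
  calc 2 ^ n ≤ 2 ^ 4 := Nat.pow_le_pow_right two_pos hn4
    _ = 16 := by norm_num

/-- A nontrivial normal 2-subgroup forces `G = C(j tt)`. -/
theorem Data.range_eq_top_of_pgroup {P : Sylow 2 G} (hP : (P : Subgroup G) = P0.map h.j)
    {Q : Subgroup G} (hQn : Q.Normal) (hQp : IsPGroup 2 Q) (hQ : Q ≠ ⊥) : h.j.range = ⊤ := by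
  classical
  have hQP : Q ≤ P0.map h.j := hP ▸ hQp.le_sylow_of_normal P
  have hconj : ∀ x, h.j x ∈ Q → ∀ g, h.j (g * x * g⁻¹) ∈ Q := fun x hx g => by
    simpa using hQn.conj_mem _ hx (h.j g)
  have hQA : ∀ x, h.j x ∈ Q → x ∈ A0 := fun x hx => mem_A0.2 (all_conj x fun g => by
    obtain ⟨y, hy, hye⟩ := hQP (hconj x hx g)
    exact h.inj hye ▸ mem_P0.1 hy)
  by_cases hall : ∀ x, h.j x ∈ Q → x.2 = 1
  · obtain ⟨q, hq, hq1⟩ := Q.bot_or_exists_ne_one.resolve_left hQ
    have htt : ∀ y : M0, y.2 = 1 → y = 1 ∨ y = tt := fun y hy => eq_of_central y fun z => by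
      refine Prod.ext (mul_comm _ _) ?_
      simp [hy]
    obtain ⟨x, -, rfl⟩ := hQP hq
    obtain rfl : x = tt := (htt x (hall x hq)).resolve_left fun e => hq1 (by rw [e, map_one])
    rw [← h.cent, eq_top_iff]
    intro g _
    obtain ⟨y, -, hy⟩ := hQP (hQn.conj_mem _ hq g)
    have hy' : h.j y ∈ Q := hy ▸ hQn.conj_mem _ hq g
    rcases htt y (hall y hy') with rfl | rfl
    · rw [map_one] at hy
      exact absurd (conj_eq_one_iff.1 hy.symm) hq1
    · exact Subgroup.mem_centralizer_singleton_iff.2 (mul_inv_eq_iff_eq_mul.1 hy.symm)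
  push Not at hall
  obtain ⟨x, hx, hx2⟩ := hall
  obtain ⟨g, hg1, hg2, hg3, hg4⟩ := exists_commutator x hx2 (mem_A0.1 (hQA x hx)).1
    (mem_A0.1 (hQA x hx)).2
  have hv : h.j (g * x * g⁻¹ * x⁻¹) ∈ Q := by
    rw [map_mul, map_inv]; exact mul_mem (hconj x hx g) (inv_mem hx)
  obtain ⟨a, ha⟩ := double_conj _ hg2 hg1 hg3 hg4
  have hdd : h.j dd ∈ Q := by
    have := hconj _ (ha.symm ▸ hv) a⁻¹
    simpa [mul_assoc] using this
  have hee : h.j ee ∈ Q := by
    obtain ⟨b, hb⟩ := dd_conj_ee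
    exact hb ▸ hconj dd hdd b
  have hcA : centralizer (Q : Set G) = A0.map h.j := by
    refine le_antisymm (fun g hg => ?_) ?_
    · have h1 : g ∈ centralizer ({h.j dd} : Set G) :=
        Subgroup.mem_centralizer_singleton_iff.2 (hg _ hdd).symm
      rw [h.cdd] at h1
      obtain ⟨y, hy, rfl⟩ := h1
      exact ⟨y, mem_A0.2 ⟨mem_P0.1 hy, h.inj (by rw [map_mul, map_mul]; exact (hg _ hee).symm)⟩, rfl⟩
    · rintro _ ⟨y, hy, rfl⟩ q hq
      obtain ⟨z, -, rfl⟩ := hQP hq
      have hz := mem_A0.1 (hQA z hq)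
      rw [← map_mul, ← map_mul,
        commute_dd_ee z y hz.1 hz.2 (mem_A0.1 hy).1 (mem_A0.1 hy).2]
  haveI := hQn
  have hAn : (A0.map h.j).Normal := hcA ▸ inferInstance
  rw [← h.normalizer_A]
  exact Subgroup.normalizer_eq_top_iff.2 hAn

/-- A solvable group with these data is the centraliser. -/
theorem Data.range_eq_top_of_solvable {P : Sylow 2 G} (hP : (P : Subgroup G) = P0.map h.j)
    [hS : Group.IsSolvable G] : h.j.range = ⊤ := by
  classical
  obtain ⟨n, hn⟩ := hS.solvable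
  -- a nontrivial abelian normal subgroup
  have hex : ∃ n, derivedSeries G n = ⊥ := ⟨n, hn⟩
  have hne0 : Nat.find hex ≠ 0 := by
    intro e
    have := Nat.find_spec hex
    rw [e, derivedSeries_zero] at this
    have h1 : h.j dd = 1 := by
      rw [← Subgroup.mem_bot, ← this]; exact Subgroup.mem_top _
    exact basic.2.2.2.1 (h.inj (by rw [h1, map_one]))
  obtain ⟨m, hm⟩ := Nat.exists_eq_succ_of_ne_zero hne0
  set M := derivedSeries G m with hM
  have hMne : M ≠ ⊥ := Nat.find_min hex (by omega)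
  have hMn : M.Normal := derivedSeries_normal G m
  have hMab : ∀ a ∈ M, ∀ b ∈ M, a * b = b * a := by
    intro a ha b hb
    have h1 : ⁅a, b⁆ ∈ derivedSeries G (m + 1) := Subgroup.commutator_mem_commutator ha hb
    have := Nat.find_spec hex
    rw [hm] at this
    rw [show derivedSeries G (m + 1) = ⊥ from this, Subgroup.mem_bot,
      commutatorElement_eq_one_iff_mul_comm] at h1
    exact h1
  by_cases h2 : 2 ∣ Nat.card M
  · let Q : Subgroup G :=
      { carrier := {x | x ∈ M ∧ x * x = 1}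
        one_mem' := ⟨one_mem M, one_mul 1⟩
        mul_mem' := fun {a b} ha hb => ⟨mul_mem ha.1 hb.1, by
          calc a * b * (a * b) = a * (b * a) * b := by simp [mul_assoc]
            _ = (a * a) * (b * b) := by rw [hMab b hb.1 a ha.1]; simp [mul_assoc]
            _ = 1 := by rw [ha.2, hb.2, one_mul]⟩
        inv_mem' := fun {a} ha => ⟨inv_mem ha.1, by rw [← mul_inv_rev, ha.2, inv_one]⟩ }
    refine h.range_eq_top_of_pgroup hP (Q := Q) ⟨fun x hx g => ⟨hMn.conj_mem x hx.1 g, ?_⟩⟩ ?_ ?_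
    · rw [conj_mul, hx.2]; simp
    · exact fun x => ⟨1, Subtype.ext (by rw [Subgroup.coe_pow, pow_one, pow_two]; exact x.2.2)⟩
    · haveI : Fact (Nat.Prime 2) := ⟨Nat.prime_two⟩
      obtain ⟨x, hx⟩ := exists_prime_orderOf_dvd_card' (G := M) 2 h2
      intro e
      have hxQ : (x : G) ∈ Q := ⟨x.2, by
        rw [← pow_two, ← hx, ← Subgroup.orderOf_coe]; exact pow_orderOf_eq_one _⟩
      rw [e, Subgroup.mem_bot] at hxQ
      rw [← Subgroup.orderOf_coe, hxQ, orderOf_one] at hx
      exact absurd hx (by norm_num)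
  · exact absurd (h.odd_normal_eq_bot hMn h2) hMne

theorem Data.solvable_ext (hns : ¬ Group.IsSolvable G) {K : Subgroup G} (hK : K.Normal)
    (hKs : ¬ Group.IsSolvable K → False) (hq : Group.IsSolvable (G ⧸ K)) : False := by
  haveI : Group.IsSolvable K := by_contra hKs
  exact hns (Group.isSolvable_of_ker_le_range K.subtype (QuotientGroup.mk' K)
    (by rw [QuotientGroup.ker_mk', Subgroup.range_subtype]))

end Cfsg.Agent.CharTwo.TwoSymFour
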