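import Mathlib.GroupTheory.Perm.Sign
import Mathlib.GroupTheory.Perm.Fin
import Mathlib.GroupTheory.SpecificGroups.Dihedral
import Mathlib.Algebra.Group.TypeTags.Finite
import Mathlib.Data.ZMod.Basic
import Mathlib.GroupTheory.Commutator.Basic

/-!
# The group `Z₂ × S₄`: finite computations
-/

set_option autoImplicit false
set_option synthInstance.maxSize 2000
set_option maxHeartbeats 1000000
set_option synthInstance.maxHeartbeats 200000

namespace Cfsg.Agent.CharTwo.TwoSymFour

open Equiv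

/-- The model group. -/
abbrev M0 : Type := Multiplicative (ZMod 2) × Perm (Fin 4)

/-- The central involution. -/
def tt : M0 := (Multiplicative.ofAdd 1, 1)

/-- A double transposition, the central one of the standard Sylow 2-subgroup. -/
def dd : M0 := (1, swap 0 2 * swap 1 3)

/-- A second double transposition. -/
def ee : M0 := (1, swap 0 1 * swap 2 3)

/-- An element of order three. -/
def cc : M0 := (1, swap 1 2 * swap 2 3)

/-- A transposition commuting with `dd`. -/
def uu : M0 := (1, swap 0 2)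

theorem basic : tt * tt = 1 ∧ tt ≠ 1 ∧ dd * dd = 1 ∧ dd ≠ 1 ∧ ee * ee = 1 ∧ ee ≠ 1 ∧
    tt ≠ dd ∧ dd * ee = ee * dd ∧ cc * cc * cc = 1 ∧ cc ≠ 1 ∧ uu * uu = 1 ∧
    uu * dd = dd * uu := by
  decide +kernel

theorem tt_central : ∀ x : M0, x * tt = tt * x := by decide +kernel

theorem eq_of_central : ∀ x : M0, (∀ y : M0, x * y = y * x) → x = 1 ∨ x = tt := by decide +kernel

/-- The four-group of double transpositions. -/
theorem double_conj : ∀ v : M0, v.1 = 1 → v ≠ 1 → v * v = 1 → Perm.sign v.2 = 1 →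
    ∃ x : M0, x * dd * x⁻¹ = v := by
  decide +kernel

theorem dd_conj_ee : ∃ x : M0, x * dd * x⁻¹ = ee := by decide +kernel

theorem dd_conj_mul : ∃ x : M0, x * dd * x⁻¹ = dd * ee := by decide +kernel

theorem sq_centralizer_dd : ∀ x y : M0, x * dd = dd * x → y * dd = dd * y →
    x * y * x⁻¹ * y⁻¹ = 1 ∨ x * y * x⁻¹ * y⁻¹ = dd := by
  decide +kernel

/-- An element all whose conjugates commute with `dd` lies in `Z₂ × V`. -/
theorem all_conj : ∀ x : M0, (∀ g : M0, g * x * g⁻¹ * dd = dd * (g * x * g⁻¹)) →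
    x * dd = dd * x ∧ x * ee = ee * x := by
  decide +kernel

theorem commute_dd_ee : ∀ x y : M0, x * dd = dd * x → x * ee = ee * x → y * dd = dd * y →
    y * ee = ee * y → x * y = y * x := by
  decide +kernel

theorem conj_dd_ee : ∀ x g : M0, x * dd = dd * x → x * ee = ee * x →
    g * x * g⁻¹ * dd = dd * (g * x * g⁻¹) ∧ g * x * g⁻¹ * ee = ee * (g * x * g⁻¹) := by
  decide +kernel

theorem exists_commutator : ∀ x : M0, x.2 ≠ 1 → x * dd = dd * x → x * ee = ee * x →
    ∃ g : M0, g * x * g⁻¹ * x⁻¹ ≠ 1 ∧ (g * x * g⁻¹ * x⁻¹).1 = 1 ∧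
      g * x * g⁻¹ * x⁻¹ * (g * x * g⁻¹ * x⁻¹) = 1 ∧ Perm.sign (g * x * g⁻¹ * x⁻¹).2 = 1 := by
  decide +kernel

theorem card_centralizer_dd : (Finset.univ.filter fun x : M0 => x * dd = dd * x).card = 16 := by
  decide +kernel

theorem card_centralizer_dd_ee :
    (Finset.univ.filter fun x : M0 => x * dd = dd * x ∧ x * ee = ee * x).card = 8 := by
  decide +kernel

end Cfsg.Agent.CharTwo.TwoSymFour
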