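import Cfsg.Agent.CharTwo.TwoTimesSymmetricFourModel

/-!
# The group `Z₂ × S₄`: further finite computations
-/

set_option autoImplicit false
set_option synthInstance.maxSize 2000
set_option maxHeartbeats 1000000
set_option synthInstance.maxHeartbeats 200000

namespace Cfsg.Agent.CharTwo.TwoSymFour

open Equiv

/-- An element of order four squaring to `dd`. -/
def aa : M0 := (1, swap 0 1 * swap 1 2 * swap 2 3)

/-- The sign as an element of `Z₂`. -/
def sgn2 (p : Perm (Fin 4)) : Multiplicative (ZMod 2) :=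
  if Perm.sign p = 1 then 1 else Multiplicative.ofAdd 1

theorem sgn2_mul : ∀ p q : Perm (Fin 4), sgn2 (p * q) = sgn2 p * sgn2 q := by decide +kernel

theorem facts_two : aa * aa = dd ∧ aa * aa * aa ≠ 1 ∧ uu * aa * uu⁻¹ = aa⁻¹ ∧ aa * dd = dd * aa ∧
    uu * dd = dd * uu ∧ uu ≠ 1 ∧ tt.1 ≠ 1 ∧ sgn2 (uu.2) ≠ 1 ∧ (dd.1 = 1) ∧ sgn2 dd.2 = 1 ∧
    uu * uu = 1 ∧ aa ≠ 1 ∧ dd * uu ≠ 1 ∧ cc.1 = 1 ∧ uu.1 = 1 ∧ uu ≠ aa ∧ uu ≠ aa * aa ∧
    uu ≠ aa * aa * aa ∧ Perm.sign cc.2 = 1 := by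
  decide +kernel

theorem even_is_sq : ∀ x : M0, x.1 = 1 → Perm.sign x.2 = 1 → ∃ y : M0, y * y = x := by decide +kernel

theorem even_in_sylow_is_sq : ∀ x : M0, x * dd = dd * x → x.1 = 1 → Perm.sign x.2 = 1 →
    ∃ y : M0, y * dd = dd * y ∧ y.1 = 1 ∧ y * y = x ∨
      ∃ a b : M0, a.1 = 1 ∧ b.1 = 1 ∧ a * a * (b * b) = x := by
  decide +kernel

theorem decompose : ∀ x : M0, x =
    ((x.1, 1) : M0) * (if Perm.sign x.2 = 1 then (1, x.2) else (1, x.2 * uu.2) * uu) := by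
  decide +kernel

theorem central_P0 : ∀ x : M0, x * dd = dd * x → (∀ y : M0, y * dd = dd * y → x * y = y * x) →
    x.1 = 1 → x = 1 ∨ x = dd := by
  decide +kernel

theorem A0_iff : ∀ x : M0, (x * dd = dd * x ∧ x * ee = ee * x) ↔
    (x * dd = dd * x ∧ Perm.sign x.2 = 1) := by
  decide +kernel

theorem card_fst : (Finset.univ.filter fun x : M0 => x * dd = dd * x ∧ x.1 = 1).card = 8 := by
  decide +kernel

/-- The possible conjugates of the central involution outside the index-two subgroup. -/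
theorem outside_cases : ∀ x : M0, x * dd = dd * x → x * x = 1 → x.1 ≠ 1 → x ≠ tt →
    (∃ g : M0, g * x * g⁻¹ = tt * dd) ∨ ∃ g : M0, g * x * g⁻¹ = tt * uu := by
  decide +kernel

theorem exists_double_commuting : ∀ w : M0, w * w = 1 → ∃ v : M0, v * w = w * v ∧
    (∃ g : M0, g * dd * g⁻¹ = v) := by
  decide +kernel

theorem uu_cases : ∀ y : M0, y * y = 1 → y ≠ 1 → y.1 = 1 → y * uu = uu * y →
    y = dd ∨ ∃ g : M0, g * uu * g⁻¹ = y := by
  decide +kernel

theorem tt_uu_dd : ∃ g : M0, g * (tt * uu) * g⁻¹ = tt * uu * dd := by decide +kernel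

/-- The seven conjugates. -/
theorem card_seven : (Finset.univ.filter fun x : M0 =>
    x = tt ∨ ∃ g : M0, g * (tt * uu) * g⁻¹ = x).card = 7 := by
  decide +kernel

end Cfsg.Agent.CharTwo.TwoSymFour
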