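import Cfsg.Agent.CharTwo.TwoTimesSymmetricFour
import Cfsg.Agent.CharTwo.TwoTimesSymmetricFourModelTwo
import Cfsg.Agent.CharTwo.AltSixAction
import Cfsg.Agent.FourCentral.OrderEight
import Cfsg.Agent.LocalEven.TransferIndexTwo
import Cfsg.Agent.S0215
import Cfsg.Agent.S0497

/-!
# The nonsolvable case: `G ≅ S₆`
-/

set_option autoImplicit false

namespace Cfsg.Agent.CharTwo.TwoSymFour

open Subgroup
open scoped commutatorElement

theorem fst_cases : ∀ a : Multiplicative (ZMod 2),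
    (((a, 1) : M0) = 1 ∧ a = 1) ∨ (((a, 1) : M0) = tt ∧ a ≠ 1) := by decide

theorem self_mul_Z2 : ∀ a : Multiplicative (ZMod 2), a * a = 1 := by decide

theorem small_facts : (tt * dd) * dd = dd * (tt * dd) ∧ tt ≠ tt * dd ∧
    Equiv.Perm.sign dd.2 = 1 ∧ Equiv.Perm.sign ee.2 = 1 ∧ dd.1 = 1 ∧ ee.1 = 1 ∧
    ((uu.1 * sgn2 uu.2, uu.2) : M0) = tt * uu ∧ ((tt.1 * sgn2 tt.2, tt.2) : M0) = tt ∧
    ((dd.1 * sgn2 dd.2, dd.2) : M0) = dd := by decide +kernel

variable {G : Type*} [Group G] [Finite G] (h : Data G)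
include h

theorem Data.solvable_of_le_range {H : Subgroup G} (hH : H ≤ h.j.range) : Group.IsSolvable H := by
  haveI := isSolvable_M0
  haveI : Group.IsSolvable h.j.range :=
    Group.isSolvable_of_surjective (f := h.j.rangeRestrict) h.j.rangeRestrict_surjective
  exact Group.isSolvable_of_isSolvable_injective (f := Subgroup.inclusion hH) (inclusion_injective hH)

theorem Data.not_conj_tt_dd (g : G) : g * h.j tt * g⁻¹ ≠ h.j dd := by
  intro e
  have h1 : Nat.card (centralizer ({h.j tt} : Set G)) ≤ Nat.card (centralizer ({h.j dd} : Set G)) := by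
    refine Nat.card_le_card_of_injective (fun x => ⟨g * x.1 * g⁻¹,
      Subgroup.mem_centralizer_singleton_iff.2 ?_⟩) fun x y e' =>
        Subtype.ext (mul_left_cancel (mul_right_cancel (congrArg Subtype.val e' :)))
    rw [← e]
    have := congrArg (fun y => g * y * g⁻¹) (Subgroup.mem_centralizer_singleton_iff.1 x.2)
    simpa [mul_assoc] using this
  rw [h.cent, h.cdd, h.card_range, h.card_map, card_P0] at h1
  omega

/-- The normaliser of the Sylow 2-subgroup fixes `dd`. -/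
theorem Data.normalizer_P {g : G} (hg : g ∈ normalizer ((P0.map h.j : Subgroup G) : Set G)) :
    g ∈ P0.map h.j := by
  obtain ⟨h1, h2, h3, h4, h5, -⟩ := facts_two
  obtain ⟨-, -, hd2, hd1, -⟩ := basic
  have hm : ∀ x ∈ P0, ∃ x' ∈ P0, h.j x' = g * h.j x * g⁻¹ := fun x hx =>
    (Subgroup.mem_normalizer_iff.1 hg _).1 ⟨x, hx, rfl⟩
  obtain ⟨u', hu', hue⟩ := hm uu (mem_P0.2 h5)
  obtain ⟨a', ha', hae⟩ := hm aa (mem_P0.2 h4)
  have hd : dd = uu * aa * uu⁻¹ * aa⁻¹ := by
    rw [h3, ← mul_inv_rev, h1, inv_eq_of_mul_eq_one_right hd2]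
  have he : h.j (u' * a' * u'⁻¹ * a'⁻¹) = g * h.j dd * g⁻¹ := by
    rw [hd]
    simp only [map_mul, map_inv, hue, hae]
    group
  rcases sq_centralizer_dd u' a' (mem_P0.1 hu') (mem_P0.1 ha') with e | e
  · rw [e, map_one] at he
    exact absurd (h.inj (by rw [conj_eq_one_iff.1 he.symm, map_one])) hd1
  · rw [← h.cdd]
    rw [e] at he
    exact Subgroup.mem_centralizer_singleton_iff.2 (mul_inv_eq_iff_eq_mul.1 he.symm)

variable {P : Sylow 2 G} (hP : (P : Subgroup G) = P0.map h.j)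
include hP

theorem Data.exists_index_two : ∃ H : Subgroup G, H.index = 2 := by
  classical
  let e : P0 ≃* (P : Subgroup G) :=
    (P0.equivMapOfInjective h.j h.inj).trans (MulEquiv.subgroupCongr hP.symm)
  let χ : (P : Subgroup G) →* Multiplicative (ZMod 2) :=
    ((MonoidHom.fst _ _).comp P0.subtype).comp e.symm.toMonoidHom
  have hχ : ∀ (x : M0) (hx : x ∈ P0) (hm : h.j x ∈ (P : Subgroup G)), χ ⟨h.j x, hm⟩ = x.1 := by
    intro x hx hm
    have : e ⟨x, hx⟩ = ⟨h.j x, hm⟩ := Subtype.ext rfl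
    show (e.symm _ : M0).1 = _
    rw [← this, e.symm_apply_apply]
  have htP : tt ∈ P0 := mem_P0.2 (tt_central dd).symm
  refine LocalEven.exists_index_two_of_central P χ (z := h.j tt) (hP ▸ ⟨tt, htP, rfl⟩) ?_ ?_ ?_
  · rw [← map_mul, basic.1, map_one]
  · intro s hs
    rw [hP] at hs
    obtain ⟨x, -, rfl⟩ := hs
    rw [← map_mul, ← map_mul, tt_central]
  intro g hg hm
  rw [hP] at hg
  have hg' := h.normalizer_P hg
  obtain ⟨y, -, rfl⟩ := hg'
  have hval : (h.j y)⁻¹ * h.j tt * h.j y = h.j tt := by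
    rw [mul_assoc, ← map_mul, ← tt_central, map_mul, inv_mul_cancel_left]
  have : (⟨(h.j y)⁻¹ * h.j tt * h.j y, hm⟩ : (P : Subgroup G)) = ⟨h.j tt, hP ▸ ⟨tt, htP, rfl⟩⟩ :=
    Subtype.ext hval
  rw [this, hχ tt htP]
  exact facts_two.2.2.2.2.2.2.1

omit hP in
/-- Twisting the identification by the sign. -/
theorem Data.exists_twist : ∃ h' : Data G, ∀ x, h'.j x = h.j (x.1 * sgn2 x.2, x.2) := by
  let φ : M0 →* M0 :=
    { toFun := fun x => (x.1 * sgn2 x.2, x.2)
      map_one' := by decide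
      map_mul' := fun x y => Prod.ext (by
        show x.1 * y.1 * sgn2 (x.2 * y.2) = x.1 * sgn2 x.2 * (y.1 * sgn2 y.2)
        rw [sgn2_mul, mul_mul_mul_comm]) rfl }
  have hφ2 : ∀ x, φ (φ x) = x := by
    intro x
    refine Prod.ext ?_ rfl
    show x.1 * sgn2 x.2 * sgn2 x.2 = x.1
    rw [mul_assoc, show sgn2 x.2 * sgn2 x.2 = 1 from by
      exact self_mul_Z2 _, mul_one]
  have hφ : Function.Bijective φ := ⟨fun a b e => by rw [← hφ2 a, e, hφ2],
    fun b => ⟨φ b, hφ2 b⟩⟩
  have hrange : (h.j.comp φ).range = h.j.range := by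
    rw [MonoidHom.range_comp, MonoidHom.range_eq_top.2 hφ.2, ← MonoidHom.range_eq_map]
  have ht : h.j.comp φ tt = h.j tt := congrArg h.j (by decide)
  have hd : h.j.comp φ dd = h.j dd := congrArg h.j (by decide)
  have hPφ : P0.map φ = P0 := by
    ext x
    constructor
    · rintro ⟨y, hy, rfl⟩
      rw [mem_P0, show dd = φ dd by decide, ← map_mul, ← map_mul, mem_P0.1 hy]
    · intro hx
      refine ⟨φ x, mem_P0.2 ?_, hφ2 x⟩
      rw [show dd = φ dd by decide, ← map_mul, ← map_mul, mem_P0.1 hx]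
  exact ⟨⟨h.j.comp φ, h.inj.comp hφ.1, by rw [ht, hrange, h.cent],
    by rw [hd, h.cdd, ← Subgroup.map_map, hPφ]⟩, fun x => rfl⟩

theorem Data.not_le_index_two {H : Subgroup G} (hH : H.index = 2) : ¬ (P : Subgroup G) ≤ H := by
  intro hle
  haveI : Fact (Nat.Prime 2) := ⟨Nat.prime_two⟩
  exact P.not_dvd_index (by simpa [hH] using Subgroup.index_dvd_of_le hle)

omit hP in
theorem Data.even_mem {H : Subgroup G} (hH : H.index = 2) {x : M0} (h1 : x.1 = 1)
    (h2 : Equiv.Perm.sign x.2 = 1) : h.j x ∈ H := by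
  obtain ⟨y, rfl⟩ := even_is_sq x h1 h2
  rw [map_mul]
  exact Subgroup.mul_self_mem_of_index_two hH _

theorem Data.tt_not_mem (hns : ¬ Group.IsSolvable G) {H : Subgroup G} (hH : H.index = 2) :
    h.j tt ∉ H := by
  classical
  intro htH
  haveI hHn : H.Normal := Subgroup.normal_of_index_eq_two hH
  haveI : Fact (Nat.Prime 2) := ⟨Nat.prime_two⟩
  have hPH : ∀ x ∈ P0, h.j x ∈ H ↔ x ∈ A0 := by
    intro x hx
    have key : ∀ y : M0, Equiv.Perm.sign y.2 = 1 → h.j y ∈ H := by
      intro y hy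
      have e1 : y = (y.1, 1) * (1, y.2) := by simp
      rw [e1, map_mul]
      refine mul_mem ?_ (h.even_mem hH rfl hy)
      rcases fst_cases y.1 with ⟨e, -⟩ | ⟨e, -⟩ <;> rw [e]
      · rw [map_one]; exact one_mem H
      · exact htH
    constructor
    · intro hxH
      refine mem_A0.2 ((A0_iff x).2 ⟨mem_P0.1 hx, ?_⟩)
      rcases Int.units_eq_one_or (Equiv.Perm.sign x.2) with e | e
      · exact e
      · refine absurd ?_ (h.not_le_index_two hP hH)
        rw [hP]
        rintro _ ⟨y, hy, rfl⟩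
        rcases Int.units_eq_one_or (Equiv.Perm.sign y.2) with e' | e'
        · exact key y e'
        · have : h.j (y * x⁻¹) ∈ H := key _ (by simp [e, e'])
          rw [map_mul, map_inv] at this
          simpa using mul_mem this hxH
    · intro hxA
      exact key x ((A0_iff x).1 (mem_A0.1 hxA)).2
  -- the Sylow subgroup of `H`
  set A := A0.map h.j with hA
  have hAH : A ≤ H := by
    rintro _ ⟨x, hx, rfl⟩
    exact (hPH x (mem_P0.2 (mem_A0.1 hx).1)).2 hx
  have hcG : Nat.card H * 2 = Nat.card G := by rw [← hH, H.card_mul_index]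
  have hP16 : Nat.card P = 16 := by rw [hP, h.card_map, card_P0]
  let AH : Sylow 2 H := Sylow.ofCard (A.subgroupOf H) (by
    rw [Nat.card_congr (Subgroup.subgroupOfEquivOfLe hAH).toEquiv, h.card_map, card_A0]
    have e1 := P.card_eq_multiplicity
    rw [hP16] at e1
    have e2 : (Nat.card G).factorization 2 = (Nat.card H).factorization 2 + 1 := by
      rw [← hcG, Nat.factorization_mul Nat.card_pos.ne' two_ne_zero, Finsupp.add_apply,
        Nat.Prime.factorization_self Nat.prime_two]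
    rw [e2, pow_succ] at e1
    omega)
  let u : H := ⟨h.j tt, htH⟩
  have hu : orderOf u = 2 := by
    rw [← Subgroup.orderOf_coe]
    show orderOf (h.j tt) = 2
    rw [orderOf_injective _ h.inj]
    exact orderOf_eq_prime (by rw [pow_two, basic.1]) basic.2.1
  have huA : u ∈ AH := ⟨tt, mem_A0.2 ⟨(tt_central dd).symm, (tt_central ee).symm⟩, rfl⟩
  have hAcomm : ∀ a ∈ (AH : Subgroup H), ∀ b ∈ (AH : Subgroup H), a * b = b * a := by
    rintro a ⟨x, hx, hxa⟩ b ⟨y, hy, hyb⟩
    refine Subtype.ext ?_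
    show (a : G) * b = b * a
    rw [show (a : G) = h.j x from hxa.symm, show (b : G) = h.j y from hyb.symm, ← map_mul, ← map_mul,
      commute_dd_ee x y (mem_A0.1 hx).1 (mem_A0.1 hx).2 (mem_A0.1 hy).1 (mem_A0.1 hy).2]
  obtain ⟨N, hNn, hNodd, hN⟩ := S0215.result AH u hu huA (fun g hg => by
    obtain ⟨n, hn, hne⟩ := AH.conj_eq_normalizer_conj_of_mem_centralizer u g⁻¹
      (fun a ha => hAcomm a ha u huA) (fun a ha => by simpa using hAcomm a ha _ hg)
    have hn' : (n : G) ∈ h.j.range := by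
      rw [← h.normalizer_A, Subgroup.mem_normalizer_iff]
      intro y
      constructor
      · intro hy
        exact ((Subgroup.mem_normalizer_iff.1 hn ⟨y, hAH hy⟩).1 hy :)
      · intro hy
        have hyH : (n : G)⁻¹ * ((n : G) * y * (n : G)⁻¹) * n ∈ H :=
          mul_mem (mul_mem (inv_mem n.2) (hAH hy)) n.2
        rw [show (n : G)⁻¹ * ((n : G) * y * (n : G)⁻¹) * n = y by simp [mul_assoc]] at hyH
        exact (Subgroup.mem_normalizer_iff.1 hn ⟨y, hyH⟩).2 hy
    rw [show g * u * g⁻¹ = g⁻¹⁻¹ * u * g⁻¹ by rw [inv_inv], hne]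
    obtain ⟨y, hy⟩ := hn'
    refine Subtype.ext ?_
    show (n : G)⁻¹ * h.j tt * n = h.j tt
    rw [← hy, mul_assoc, ← map_mul, ← tt_central, map_mul, inv_mul_cancel_left])
  have hNbot : N.map H.subtype = ⊥ := by
    refine h.odd_eq_bot (by
      rw [Subgroup.card_map_of_injective H.subtype_injective, ← even_iff_two_dvd,
        Nat.not_even_iff_odd]; exact hNodd) ?_ ?_ <;>
    · rintro _ ⟨y, hy, rfl⟩
      first
      | exact ⟨_, hNn.conj_mem y hy ⟨_, h.even_mem hH rfl small_facts.2.2.1⟩, rfl⟩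
      | exact ⟨_, hNn.conj_mem y hy ⟨_, h.even_mem hH rfl small_facts.2.2.2.1⟩, rfl⟩
  rw [Subgroup.map_eq_bot_iff_of_injective _ H.subtype_injective] at hNbot
  have hle : H ≤ h.j.range := by
    intro g hg
    rw [← h.cent, Subgroup.mem_centralizer_singleton_iff]
    have h1 := hN ⟨g, hg⟩
    rw [hNbot, Subgroup.mem_bot, mul_inv_eq_one, mul_inv_eq_iff_eq_mul] at h1
    exact (congrArg Subtype.val h1).symm
  haveI := h.solvable_of_le_range hle
  haveI : Group.IsSolvable (G ⧸ H) := by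
    have hp : IsPGroup 2 (G ⧸ H) := IsPGroup.of_card (n := 1) (by rw [← Subgroup.index, hH, pow_one])
    haveI := hp.isNilpotent
    infer_instance
  exact hns (Group.isSolvable_of_ker_le_range H.subtype (QuotientGroup.mk' H)
    (by rw [QuotientGroup.ker_mk', Subgroup.range_subtype]))

/-- After twisting, the index-two subgroup meets `C(t)` in `1 × S₄`. -/
theorem Data.exists_normalized (hns : ¬ Group.IsSolvable G) {H : Subgroup G} (hH : H.index = 2) :
    ∃ h' : Data G, h'.j tt = h.j tt ∧ P0.map h'.j = P0.map h.j ∧ ∀ x, h'.j x ∈ H ↔ x.1 = 1 := by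
  have htH := h.tt_not_mem hP hns hH
  haveI hHn : H.Normal := Subgroup.normal_of_index_eq_two hH
  have hsplit : ∀ (k : Data G), k.j tt ∉ H → k.j uu ∈ H → ∀ x, k.j x ∈ H ↔ x.1 = 1 := by
    intro k hkt hku x
    have h2 : k.j (1, x.2) ∈ H := by
      rcases Int.units_eq_one_or (Equiv.Perm.sign x.2) with e | e
      · exact k.even_mem hH rfl e
      · have h3 : k.j ((1, x.2) * uu) ∈ H := k.even_mem hH (by simp [uu]) (by simp [uu, e])
        rw [map_mul] at h3
        exact (Subgroup.mul_mem_cancel_right _ hku).1 h3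
    have hx : x = (x.1, 1) * (1, x.2) := by simp
    conv_lhs => rw [hx, map_mul]
    rw [Subgroup.mul_mem_cancel_right _ h2]
    rcases fst_cases x.1 with ⟨e, e'⟩ | ⟨e, e'⟩ <;> rw [e]
    · simp [e']
    · simp [e', hkt]
  by_cases hu : h.j uu ∈ H
  · exact ⟨h, rfl, rfl, hsplit h htH hu⟩
  obtain ⟨h', hj'⟩ := h.exists_twist
  have ht : h'.j tt = h.j tt := by rw [hj', small_facts.2.2.2.2.2.2.2.1]
  refine ⟨h', ht, ?_, hsplit h' (ht ▸ htH) ?_⟩
  · rw [← h'.cdd, ← h.cdd, hj', small_facts.2.2.2.2.2.2.2.2]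
  · rw [hj', small_facts.2.2.2.2.2.2.1, map_mul,
      Subgroup.mul_mem_iff_of_index_two hH]
    exact iff_of_false htH hu

/-- A conjugate of `uu` is `dd`. -/
theorem Data.exists_fusion (hns : ¬ Group.IsSolvable G) {H : Subgroup G} (hH : H.index = 2)
    (hmem : ∀ x, h.j x ∈ H ↔ x.1 = 1) :
    (∃ g : G, g * h.j tt * g⁻¹ = h.j (tt * uu)) ∧ ∃ g ∈ H, g * h.j dd * g⁻¹ = h.j uu := by
  classical
  haveI hHn : H.Normal := Subgroup.normal_of_index_eq_two hH
  haveI : Fact (Nat.Prime 2) := ⟨Nat.prime_two⟩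
  obtain ⟨htt, htt1, hd2, hd1, -⟩ := basic
  have hof : ∀ z : M0, z * z = 1 → z ≠ 1 → orderOf (h.j z) = 2 := fun z h1 h2 => by
    rw [orderOf_injective _ h.inj]; exact orderOf_eq_prime (by rw [pow_two, h1]) h2
  have htP : h.j tt ∈ (P : Subgroup G) := hP ▸ ⟨tt, mem_P0.2 (tt_central dd).symm, rfl⟩
  have htH : h.j tt ∉ H := fun e => facts_two.2.2.2.2.2.2.1 ((hmem _).1 e)
  -- `tt` is not isolated
  obtain ⟨g, x, hx, hgx, hxt⟩ : ∃ g : G, ∃ x ∈ P0, h.j x = g * h.j tt * g⁻¹ ∧ x ≠ tt := by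
    by_contra hcon
    push Not at hcon
    obtain ⟨N, hNn, hNodd, hN⟩ := S0215.result P (h.j tt) (hof tt htt htt1) htP (fun g hg => by
      replace hg : g * h.j tt * g⁻¹ ∈ (P : Subgroup G) := hg
      rw [hP] at hg
      obtain ⟨x, hx, hgx⟩ := hg
      rw [← hgx, hcon g x hx hgx])
    have hNb := h.odd_normal_eq_bot hNn (by
      rw [← even_iff_two_dvd, Nat.not_even_iff_odd]; exact hNodd)
    refine hns ?_
    haveI := h.solvable_of_le_range (H := ⊤) (fun g _ => by
      rw [← h.cent, Subgroup.mem_centralizer_singleton_iff]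
      have h1 := hN g
      rw [hNb, Subgroup.mem_bot, mul_inv_eq_one, mul_inv_eq_iff_eq_mul] at h1
      exact h1.symm)
    exact Group.isSolvable_of_surjective (f := (⊤ : Subgroup G).subtype) fun g => ⟨⟨g, mem_top g⟩, rfl⟩
  have hx1 : x.1 ≠ 1 := fun e => by
    have := (hmem x).2 e
    rw [hgx] at this
    exact htH (by simpa [mul_assoc] using hHn.conj_mem _ this g⁻¹)
  have hx2 : x * x = 1 := h.inj (by
    rw [map_mul, hgx, map_one, conj_mul, ← map_mul, htt, map_one]; simp)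
  have hnd : ∀ a : G, a * h.j tt * a⁻¹ ≠ h.j (tt * dd) := by
    intro a ha
    have hy : h.j (tt * dd) ∈ (P : Subgroup G) :=
      hP ▸ ⟨tt * dd, mem_P0.2 small_facts.1, rfl⟩
    have hcen : ∀ z : M0, (∀ y ∈ P0, z * y = y * z) → h.j z ∈ centralizer ((P : Subgroup G) : Set G) := by
      intro z hz s hs
      rw [SetLike.mem_coe, hP] at hs
      obtain ⟨y, hy', rfl⟩ := hs
      rw [← map_mul, ← map_mul, hz y hy']
    obtain ⟨n, hn, hne⟩ := P.conj_eq_normalizer_conj_of_mem_centralizer (h.j tt) a⁻¹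
      (hcen tt fun y _ => (tt_central y).symm) (by
        rw [inv_inv, ha]
        exact hcen _ fun y hy' => by
          rw [mul_assoc, ← mem_P0.1 hy', ← mul_assoc, ← tt_central, mul_assoc])
    replace hn : n ∈ normalizer ((P : Subgroup G) : Set G) := hn
    rw [hP] at hn
    obtain ⟨y, -, rfl⟩ := h.normalizer_P hn
    rw [inv_inv, ha, mul_assoc, ← map_mul, ← tt_central y, map_mul h.j y tt, inv_mul_cancel_left] at hne
    exact absurd (h.inj hne.symm) small_facts.2.1
  rcases outside_cases x (mem_P0.1 hx) hx2 hx1 hxt with ⟨b, hb⟩ | ⟨b, hb⟩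
  · exact absurd (by
      rw [← hb]; simp only [map_mul, map_inv, hgx]; group :
      h.j b * g * h.j tt * (h.j b * g)⁻¹ = h.j (tt * dd)) (hnd _)
  set c := h.j b * g with hc
  have hct : c * h.j tt * c⁻¹ = h.j (tt * uu) := by
    rw [← hb]; simp only [hc, map_mul, map_inv, hgx]; group
  refine ⟨⟨c, hct⟩, ?_⟩
  -- pull `tt` back into the centraliser of `tt`
  have hw : c⁻¹ * h.j tt * c ∈ centralizer ({h.j tt} : Set G) := by
    rw [Subgroup.mem_centralizer_singleton_iff]
    have h1 : h.j tt * h.j (tt * uu) = h.j (tt * uu) * h.j tt := by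
      rw [← map_mul, ← map_mul, ← tt_central]
    rw [← hct] at h1
    have := congrArg (fun z => c⁻¹ * z * c) h1
    simpa [mul_assoc] using this
  rw [h.cent] at hw
  obtain ⟨w, hw⟩ := hw
  have hw2 : w * w = 1 := h.inj (by
    rw [map_mul, hw, map_one, show c⁻¹ * h.j tt * c * (c⁻¹ * h.j tt * c) =
      c⁻¹ * (h.j tt * h.j tt) * c by simp [mul_assoc], ← map_mul, htt, map_one]
    simp)
  obtain ⟨v, hvw, a, hav⟩ := exists_double_commuting w hw2
  have hvd : h.j v = h.j a * h.j dd * (h.j a)⁻¹ := by rw [← hav]; simp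
  have hz : c * h.j v * c⁻¹ ∈ centralizer ({h.j tt} : Set G) := by
    rw [Subgroup.mem_centralizer_singleton_iff]
    have e1 : h.j tt = c * h.j w * c⁻¹ := by rw [hw]; simp [mul_assoc]
    rw [e1, conj_mul, conj_mul, ← map_mul, ← map_mul, hvw]
  rw [h.cent] at hz
  obtain ⟨y, hy⟩ := hz
  have hyconj : h.j y = (c * h.j a) * h.j dd * (c * h.j a)⁻¹ := by
    rw [hy, hvd]; group
  have hy1 : y ≠ 1 := by
    rintro rfl
    rw [map_one] at hyconj
    exact hd1 (h.inj (by rw [conj_eq_one_iff.1 hyconj.symm, map_one]))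
  have hy2 : y * y = 1 := h.inj (by rw [map_mul, hyconj, conj_mul, ← map_mul, hd2, map_one]; simp)
  have hyH : y.1 = 1 := (hmem y).1 (by rw [hyconj]; exact hHn.conj_mem _ ((hmem dd).2 rfl) _)
  have hyu : y * uu = uu * y := by
    have e1 : (h.j y) * h.j (tt * uu) = h.j (tt * uu) * h.j y := by
      rw [hy, ← hct, conj_mul, conj_mul, ← map_mul, ← map_mul, ← tt_central v]
    rw [← map_mul, ← map_mul] at e1
    have e2 := h.inj e1
    rw [← mul_assoc, tt_central, mul_assoc, mul_assoc] at e2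
    exact mul_left_cancel e2
  rcases uu_cases y hy2 hy1 hyH hyu with rfl | ⟨b', hb'⟩
  · exfalso
    obtain ⟨q, hq⟩ := tt_uu_dd
    have e1 : h.j (tt * uu * dd) = (h.j q * c) * h.j tt * (h.j q * c)⁻¹ := by
      rw [← hq]; simp only [map_mul (f := h.j), map_inv]
      rw [← map_mul, ← hct]; group
    have e2 : h.j (tt * uu * dd) = c * h.j a * h.j (tt * dd) * (c * h.j a)⁻¹ := by
      rw [map_mul, hy, ← hct, conj_mul, ← map_mul, ← hav,
        show tt * (a * dd * a⁻¹) = a * (tt * dd) * a⁻¹ by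
          simp only [← mul_assoc, tt_central a]]
      simp only [map_mul, map_inv]; group
    refine hnd ((c * h.j a)⁻¹ * (h.j q * c)) ?_
    calc (c * h.j a)⁻¹ * (h.j q * c) * h.j tt * ((c * h.j a)⁻¹ * (h.j q * c))⁻¹
        = (c * h.j a)⁻¹ * ((h.j q * c) * h.j tt * (h.j q * c)⁻¹) * (c * h.j a) := by group
      _ = h.j (tt * dd) := by rw [← e1, e2]; group
  obtain ⟨d, hd⟩ : ∃ d : G, d * h.j dd * d⁻¹ = h.j uu := by
    refine ⟨h.j b'⁻¹ * (c * h.j a), ?_⟩
    calc h.j b'⁻¹ * (c * h.j a) * h.j dd * (h.j b'⁻¹ * (c * h.j a))⁻¹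
        = h.j b'⁻¹ * ((c * h.j a) * h.j dd * (c * h.j a)⁻¹) * (h.j b'⁻¹)⁻¹ := by group
      _ = h.j uu := by
        rw [← hyconj, ← hb', ← map_inv, ← map_mul, ← map_mul]
        congr 1
        group
  by_cases hdH : d ∈ H
  · exact ⟨d, hdH, hd⟩
  · refine ⟨h.j tt * d, (Subgroup.mul_mem_iff_of_index_two hH).2 (iff_of_false htH hdH), ?_⟩
    calc h.j tt * d * h.j dd * (h.j tt * d)⁻¹ = h.j tt * (d * h.j dd * d⁻¹) * (h.j tt)⁻¹ := by group
      _ = h.j uu := by rw [hd, ← map_mul, ← tt_central, map_mul, mul_inv_cancel_right]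

theorem Data.simple_index_two (hns : ¬ Group.IsSolvable G) {H : Subgroup G} (hH : H.index = 2)
    (hmem : ∀ x, h.j x ∈ H ↔ x.1 = 1) :
    (Nat.card H = 168 ∨ Nat.card H = 360) ∧ IsSimpleGroup H := by
  classical
  haveI hHn : H.Normal := Subgroup.normal_of_index_eq_two hH
  haveI : Fact (Nat.Prime 2) := ⟨Nat.prime_two⟩
  obtain ⟨htt, htt1, hd2, hd1, -⟩ := basic
  obtain ⟨f1, f2, f3, f4, f5, f6, -, -, f9, -, f11, f12, -, -, f15, f16, f17, f18, -⟩ := facts_two
  let a : H := ⟨h.j aa, (hmem _).2 rfl⟩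
  let s : H := ⟨h.j uu, (hmem _).2 rfl⟩
  let z : H := ⟨h.j dd, (hmem _).2 rfl⟩
  set C := centralizer ({z} : Set H) with hC
  have hCmem : ∀ x : H, x ∈ C ↔ (x : G) ∈ P0.map h.j := by
    intro x
    rw [← h.cdd, hC, Subgroup.mem_centralizer_singleton_iff, Subgroup.mem_centralizer_singleton_iff,
      Subtype.ext_iff]
    rfl
  have hC8 : Nat.card C = 8 := by
    rw [← card_fst, ← Fintype.card_subtype, ← Nat.card_eq_fintype_card]
    refine (Nat.card_congr (Equiv.ofBijective
      (fun x : {x : M0 // x * dd = dd * x ∧ x.1 = 1} =>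
        (⟨⟨h.j x.1, (hmem _).2 x.2.2⟩, (hCmem _).2 ⟨x.1, mem_P0.2 x.2.1, rfl⟩⟩ : C)) ⟨?_, ?_⟩)).symm
    · exact fun x y e => Subtype.ext (h.inj (congrArg (fun q : C => ((q : H) : G)) e :))
    · rintro ⟨x, hx⟩
      obtain ⟨y, hy, hyx⟩ := (hCmem x).1 hx
      exact ⟨⟨y, mem_P0.1 hy, (hmem y).1 (hyx ▸ x.2)⟩, Subtype.ext (Subtype.ext hyx)⟩
  have hcG : Nat.card H * 2 = Nat.card G := by rw [← hH, H.card_mul_index]
  let S : Sylow 2 H := Sylow.ofCard C (by
    rw [hC8]
    have e1 := P.card_eq_multiplicity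
    rw [show Nat.card P = 16 by rw [hP, h.card_map, card_P0]] at e1
    have e2 : (Nat.card G).factorization 2 = (Nat.card H).factorization 2 + 1 := by
      rw [← hcG, Nat.factorization_mul Nat.card_pos.ne' two_ne_zero, Finsupp.add_apply,
        Nat.Prime.factorization_self Nat.prime_two]
    rw [e2, pow_succ] at e1
    omega)
  obtain ⟨d, hdH, hd⟩ := (h.exists_fusion hP hns hH hmem).2
  have hno : ∀ K : Subgroup H, K.index ≠ 2 := by
    intro K hK
    haveI hKn : K.Normal := Subgroup.normal_of_index_eq_two hK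
    have hsq : ∀ y : H, y * y ∈ K := Subgroup.mul_self_mem_of_index_two hK
    have hzK : z ∈ K := by
      have e : a * a = z := Subtype.ext (by show h.j aa * h.j aa = h.j dd; rw [← map_mul, f1])
      exact e ▸ hsq a
    have hsK : s ∈ K := by
      have e : (⟨d, hdH⟩ : H) * z * (⟨d, hdH⟩ : H)⁻¹ = s := Subtype.ext hd
      exact e ▸ hKn.conj_mem z hzK ⟨d, hdH⟩
    have heven : ∀ x : M0, (hx : x.1 = 1) → Equiv.Perm.sign x.2 = 1 →
        (⟨h.j x, (hmem x).2 hx⟩ : H) ∈ K := by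
      intro x hx hs
      -- even permutations are products of squares inside `1 × S₄`
      obtain ⟨y, hy⟩ := even_is_sq x hx hs
      have hy' : h.j (1, y.2) ∈ H := (hmem _).2 rfl
      have e : (⟨h.j x, (hmem x).2 hx⟩ : H) = ⟨_, hy'⟩ * ⟨_, hy'⟩ := Subtype.ext (by
        show h.j x = h.j (1, y.2) * h.j (1, y.2)
        rw [← map_mul]
        refine congrArg h.j ?_
        rw [← hy]
        exact Prod.ext (by simp [self_mul_Z2]) rfl)
      exact e ▸ hsq _
    have hCK : C ≤ K := by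
      rintro x hx
      obtain ⟨y, hy, hyx⟩ := (hCmem x).1 hx
      have hy1 : y.1 = 1 := (hmem y).1 (hyx ▸ x.2)
      rcases Int.units_eq_one_or (Equiv.Perm.sign y.2) with e | e
      · have : x = ⟨h.j y, (hmem y).2 hy1⟩ := Subtype.ext hyx.symm
        rw [this]; exact heven y hy1 e
      · have h1 : (y * uu).1 = 1 := by simp [hy1, f15]
        have : x = ⟨h.j (y * uu), (hmem _).2 h1⟩ * s := Subtype.ext (by
          show (x : G) = h.j (y * uu) * h.j uu
          rw [← map_mul, mul_assoc, f11, mul_one, hyx])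
        rw [this]
        exact mul_mem (heven _ h1 (by simp [uu, e])) hsK
    exact S.not_dvd_index (by have := Subgroup.index_dvd_of_le hCK; rwa [hK] at this)
  have hord : ∀ (x : M0) (hx : h.j x ∈ H), orderOf (⟨h.j x, hx⟩ : H) = orderOf x := fun x hx => by
    rw [Subgroup.orderOf_mk, orderOf_injective _ h.inj]
  have ha4 : orderOf a = 4 := by
    rw [hord]
    refine orderOf_eq_prime_pow (p := 2) (n := 1) ?_ ?_
    · rw [pow_one, pow_two, f1]; exact hd1
    · rw [show 2 ^ (1 + 1) = 2 * 2 by rfl, pow_mul, pow_two aa, f1, pow_two, hd2]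
  refine FourCentral.order_of_sylow_centralizer (α := z) (a := a) (s := s) S rfl hno ?_ hC8
    ((hCmem a).2 ⟨aa, mem_P0.2 f4, rfl⟩) ha4 ((hCmem s).2 ⟨uu, mem_P0.2 f5, rfl⟩) ?_ ?_ ?_
  · rw [hord]; exact orderOf_eq_prime (by rw [pow_two, hd2]) hd1
  · rw [hord]; exact orderOf_eq_prime (by rw [pow_two, f11]) f6
  · intro hm
    obtain ⟨i, hi⟩ := (isOfFinOrder_of_finite a).mem_powers_iff_mem_zpowers.2 hm
    have hi' : aa ^ i = uu := h.inj (by rw [map_pow]; exact congrArg Subtype.val hi)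
    have h4 : orderOf aa = 4 := by rw [← hord aa a.2]; exact ha4
    rw [← pow_mod_orderOf, h4] at hi'
    have := Nat.mod_lt i (show 4 > 0 by norm_num)
    interval_cases hr : i % 4
    · exact f6 (by rw [← hi', pow_zero])
    · exact f16 (by rw [← hi', pow_one])
    · exact f17 (by rw [← hi', pow_two])
    · exact f18 (by rw [← hi', pow_three, mul_assoc])
  · refine Subtype.ext ?_
    show h.j uu * h.j aa * (h.j uu)⁻¹ = (h.j aa)⁻¹
    rw [← map_inv, ← map_inv, ← map_mul, ← map_mul, f3]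

omit hP in
/-- The seven conjugates give an abelian normal subgroup when `|G| = 336`. -/
theorem Data.card_ne (hns : ¬ Group.IsSolvable G) {P : Sylow 2 G}
    (hP : (P : Subgroup G) = P0.map h.j) (hfus : ∃ g : G, g * h.j tt * g⁻¹ = h.j (tt * uu)) :
    Nat.card G ≠ 336 := by
  classical
  intro h336
  obtain ⟨c, hc⟩ := hfus
  obtain ⟨htt, htt1, -⟩ := basic
  have hidx : h.j.range.index = 7 := by
    have := h.j.range.card_mul_index
    rw [h.card_range, h336] at this
    omega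
  let S7 := {x : M0 // x = tt ∨ ∃ g : M0, g * (tt * uu) * g⁻¹ = x}
  have hS7 : Nat.card S7 = 7 := by
    rw [Nat.card_eq_fintype_card, Fintype.card_subtype, card_seven]
  have hcl : ∀ x : S7, ∃ g : G, g * h.j tt * g⁻¹ = h.j x.1 := by
    rintro ⟨x, rfl | ⟨q, rfl⟩⟩
    · exact ⟨1, by simp⟩
    · exact ⟨h.j q * c, by simp only [map_mul, map_inv]; rw [← map_mul, ← hc]; group⟩
  choose gx hgx using hcl
  let ι : S7 → G ⧸ h.j.range := fun x => gx x
  have hι : Function.Injective ι := by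
    intro x y e
    have h1 := QuotientGroup.eq.1 e
    rw [← h.cent, Subgroup.mem_centralizer_singleton_iff] at h1
    refine Subtype.ext (h.inj ?_)
    rw [← hgx x, ← hgx y]
    have := congrArg (fun z => gx x * z * (gx x)⁻¹) h1
    have h2 : gx y * h.j tt * (gx x)⁻¹ = gx x * h.j tt * (gx x)⁻¹ * gx y * (gx x)⁻¹ := by
      simpa [mul_assoc] using this
    calc gx x * h.j tt * (gx x)⁻¹ = gx x * h.j tt * (gx x)⁻¹ * gx y * (gx x)⁻¹ * gx x * (gx y)⁻¹ := by
          group
      _ = gx y * h.j tt * (gx y)⁻¹ := by rw [← h2]; group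
  have hsurj := (hι.bijective_of_nat_card_le (by rw [hS7]; exact le_of_eq hidx)).2
  have hall : ∀ g : G, g * h.j tt * g⁻¹ ∈ centralizer ({h.j tt} : Set G) := by
    intro g
    obtain ⟨x, hx⟩ := hsurj (g : G ⧸ h.j.range)
    have h1 := QuotientGroup.eq.1 hx
    rw [← h.cent, Subgroup.mem_centralizer_singleton_iff] at h1
    have h2 : g * h.j tt * g⁻¹ = h.j x.1 := by
      rw [← hgx x]
      calc g * h.j tt * g⁻¹ = gx x * (((gx x)⁻¹ * g) * h.j tt) * g⁻¹ := by group
        _ = gx x * h.j tt * (gx x)⁻¹ := by rw [h1]; group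
    rw [h2, h.cent]
    exact ⟨x.1, rfl⟩
  set Cl : Set G := Set.range fun g : G => g * h.j tt * g⁻¹ with hCl
  have hcomm : ∀ p ∈ Cl, ∀ q ∈ Cl, p * q = q * p := by
    rintro _ ⟨p, rfl⟩ _ ⟨q, rfl⟩
    have h1 := Subgroup.mem_centralizer_singleton_iff.1 (hall (p⁻¹ * q))
    have := congrArg (fun z => p * z * p⁻¹) h1
    simp only [mul_inv_rev, inv_inv] at this
    calc p * h.j tt * p⁻¹ * (q * h.j tt * q⁻¹)
        = p * (h.j tt * (p⁻¹ * q * h.j tt * (q⁻¹ * p))) * p⁻¹ := by group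
      _ = p * (p⁻¹ * q * h.j tt * (q⁻¹ * p) * h.j tt) * p⁻¹ := this.symm
      _ = q * h.j tt * q⁻¹ * (p * h.j tt * p⁻¹) := by group
  let N := centralizer Cl
  let Q : Subgroup G :=
    { carrier := {x | x ∈ N ∧ x ∈ centralizer (N : Set G) ∧ x * x = 1}
      one_mem' := ⟨one_mem _, one_mem _, one_mul 1⟩
      mul_mem' := fun {a b} ha hb => ⟨mul_mem ha.1 hb.1, mul_mem ha.2.1 hb.2.1, by
        have hab : b * a = a * b := ha.2.1 b hb.1
        calc a * b * (a * b) = a * (b * a) * b := by group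
          _ = (a * a) * (b * b) := by rw [hab]; group
          _ = 1 := by rw [ha.2.2, hb.2.2, one_mul]⟩
      inv_mem' := fun {a} ha => ⟨inv_mem ha.1, inv_mem ha.2.1, by
        rw [← mul_inv_rev, ha.2.2, inv_one]⟩ }
  have hNn : ∀ x ∈ N, ∀ g : G, g * x * g⁻¹ ∈ N := by
    intro x hx g _ hp
    obtain ⟨p, rfl⟩ := hp
    have := congrArg (fun z => g * z * g⁻¹) (hx _ ⟨g⁻¹ * p, rfl⟩)
    simpa [mul_assoc] using this
  have htN : h.j tt ∈ N := fun p hp => hcomm p hp (h.j tt) ⟨1, by simp⟩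
  refine hns ?_
  have hQ : h.j.range = ⊤ := by
    refine h.range_eq_top_of_pgroup hP (Q := Q) ⟨fun x hx g => ⟨hNn x hx.1 g, ?_, ?_⟩⟩ ?_ ?_
    · intro y hy
      have := congrArg (fun z => g * z * g⁻¹) (hx.2.1 _ (hNn y hy g⁻¹))
      simpa [mul_assoc] using this
    · rw [conj_mul, hx.2.2]; simp
    · exact fun x => ⟨1, Subtype.ext (by rw [Subgroup.coe_pow, pow_one, pow_two]; exact x.2.2.2)⟩
    · intro e
      have ht : h.j tt ∈ Q := ⟨htN, fun y hy => (hy _ ⟨1, by simp⟩).symm, by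
        rw [← map_mul, htt, map_one]⟩
      rw [e, Subgroup.mem_bot] at ht
      exact htt1 (h.inj (by rw [ht, map_one]))
  haveI := h.solvable_of_le_range (H := ⊤) (fun g _ => hQ ▸ mem_top g)
  exact Group.isSolvable_of_surjective (f := (⊤ : Subgroup G).subtype) fun g => ⟨⟨g, mem_top g⟩, rfl⟩

/-- The nonsolvable case. -/
theorem Data.iso_perm_six (hns : ¬ Group.IsSolvable G) :
    Nonempty (G ≃* Equiv.Perm (Fin 6)) := by
  classical
  obtain ⟨H, hH⟩ := h.exists_index_two hP
  obtain ⟨k, -, hkP, hmem⟩ := h.exists_normalized hP hns hH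
  have hP' : (P : Subgroup G) = P0.map k.j := hP.trans hkP.symm
  obtain ⟨hcard, hsimple⟩ := k.simple_index_two hP' hns hH hmem
  obtain ⟨hfus, -⟩ := k.exists_fusion hP' hns hH hmem
  haveI hHn : H.Normal := Subgroup.normal_of_index_eq_two hH
  have hcG : Nat.card H * 2 = Nat.card G := by rw [← hH, H.card_mul_index]
  have h360 : Nat.card H = 360 := hcard.resolve_left fun e =>
    k.card_ne hns hP' hfus (by rw [← hcG, e])
  haveI := hsimple
  obtain ⟨ψ⟩ := S0497.result h360
  let α : G → (alternatingGroup (Fin 6) ≃* alternatingGroup (Fin 6)) := fun g =>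
    ψ.symm.trans ((MulAut.conjNormal g).trans ψ)
  have hα : ∀ g g' x, α (g * g') x = α g (α g' x) := fun g g' x => by
    simp [α, map_mul, MulAut.mul_apply]
  have hα1 : ∀ x, α 1 x = x := fun x => by simp [α]
  have hαH : ∀ (q : H), α (q : G) = MulAut.conj (ψ q) := fun q => by
    refine MulEquiv.ext fun x => ?_
    have e : MulAut.conjNormal (q : G) (ψ.symm x) = q * ψ.symm x * q⁻¹ :=
      Subtype.ext (MulAut.conjNormal_apply _ _)
    simp [α, e]
  have htH : k.j tt ∉ H := fun e => facts_two.2.2.2.2.2.2.1 ((hmem _).1 e)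
  have htpres : AltSix.Preserves (α (k.j tt)) := by
    obtain ⟨-, -, -, -, -, -, -, -, hc3, hc1, -⟩ := basic
    let c : H := ⟨k.j cc, (hmem cc).2 rfl⟩
    refine AltSix.preserves_of_fixed (x0 := ψ c) ?_ ?_ ?_
    · rw [← map_pow, show c ^ 3 = 1 from Subtype.ext (by
        show (k.j cc) ^ 3 = 1
        rw [pow_three', ← map_mul, ← map_mul, hc3, map_one]), map_one]
    · intro e
      have e1 : c = 1 := ψ.injective (by rw [e, map_one])
      exact hc1 (k.inj (by rw [map_one]; exact congrArg Subtype.val e1))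
    · have e : MulAut.conjNormal (k.j tt) c = c := Subtype.ext (by
        rw [MulAut.conjNormal_apply]
        show k.j tt * k.j cc * (k.j tt)⁻¹ = k.j cc
        rw [← map_mul, ← tt_central, map_mul, mul_inv_cancel_right])
      simp [α, e]
  have hpres : ∀ g, AltSix.Preserves (α g) := by
    intro g
    by_cases hg : g ∈ H
    · rw [show g = ((⟨g, hg⟩ : H) : G) from rfl, hαH]; exact AltSix.preserves_conj _
    · have h1 : k.j tt * g ∈ H := (Subgroup.mul_mem_iff_of_index_two hH).2 (iff_of_false htH hg)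
      have e : α g = (α (k.j tt * g)).trans (α (k.j tt)) := MulEquiv.ext fun x => by
        show α g x = α (k.j tt) (α (k.j tt * g) x)
        rw [← hα, ← mul_assoc, ← map_mul, basic.1, map_one, one_mul]
      rw [e]
      refine AltSix.Preserves.trans ?_ htpres
      rw [show k.j tt * g = ((⟨_, h1⟩ : H) : G) from rfl, hαH]; exact AltSix.preserves_conj _
  have hinv : ∀ g, (α g).symm = α g⁻¹ := fun g => MulEquiv.ext fun x => by
    apply (α g).injective
    rw [MulEquiv.apply_symm_apply, ← hα, mul_inv_cancel, hα1]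
  choose π hπ using fun g => AltSix.exists_maps (hpres g)
  have huniq : ∀ {g i l}, AltSix.Maps (α g) i l → π g i = l := fun {g i l} hl =>
    AltSix.maps_unique (hpres g) (hinv g ▸ hpres g⁻¹) (hπ g i) hl
  letI : MulAction G (Fin 6) :=
    { smul := fun g i => π g i
      one_smul := fun i => huniq fun x hx => by rw [hα1]; exact hx
      mul_smul := fun g g' i => huniq fun x hx => by
        rw [hα]; exact hπ g _ _ (hπ g' i x hx) }
  let Φ : G →* Equiv.Perm (Fin 6) := MulAction.toPermHom G (Fin 6)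
  have hker : ∀ x ∈ Φ.ker, x ∈ H → x = 1 := by
    intro x hx hxH
    have hfix : ∀ i, π x i = i := fun i => congrFun (congrArg DFunLike.coe (MonoidHom.mem_ker.1 hx)) i
    set q : H := ⟨x, hxH⟩
    have h1 : ∀ i, ((ψ q : alternatingGroup (Fin 6)) : Equiv.Perm (Fin 6)) i = i := by
      intro i
      have := huniq (g := x) (i := i) (l := ((ψ q : alternatingGroup (Fin 6)) : Equiv.Perm (Fin 6)) i)
        fun y hy => by
          rw [show x = ((q : H) : G) from rfl, hαH]
          simp [Equiv.Perm.mul_apply, hy]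
      rw [hfix] at this
      exact this.symm
    have h2 : ψ q = 1 := Subtype.ext (Equiv.ext h1)
    exact congrArg Subtype.val (ψ.injective (by rw [h2, map_one] : ψ q = ψ 1))
  have hinj : Φ.ker = ⊥ := by
    by_contra hne
    refine hns ?_
    have hrange : k.j.range = ⊤ := k.range_eq_top_of_pgroup hP' (Q := Φ.ker) Φ.normal_ker
      (fun x => ⟨1, Subtype.ext (by
        rw [Subgroup.coe_pow, pow_one, pow_two]
        exact hker _ (mul_mem x.2 x.2) (Subgroup.mul_self_mem_of_index_two hH _))⟩) hne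
    haveI := k.solvable_of_le_range (H := ⊤) (fun g _ => hrange ▸ mem_top g)
    exact Group.isSolvable_of_surjective (f := (⊤ : Subgroup G).subtype) fun g => ⟨⟨g, mem_top g⟩, rfl⟩
  have hbij : Function.Bijective Φ := (Φ.ker_eq_bot_iff.1 hinj).bijective_of_nat_card_le (by
    rw [← hcG, h360, Nat.card_eq_fintype_card, Fintype.card_perm, Fintype.card_fin]
    decide)
  exact ⟨MulEquiv.ofBijective Φ hbij⟩

end Cfsg.Agent.CharTwo.TwoSymFour
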